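import Cfsg.Prelude.Def_Local
import Cfsg.Agent.Coprime.External
import Cfsg.Agent.Cores.PCore

/-!
An automorphism `σ` with `σ ^ 3 = 1` of a group of order prime to three, with only odd-order fixed points:
basic tools (invariant subgroups, restriction, quotients, coprime lifting).
-/

set_option autoImplicit false

namespace Cfsg.Agent.H52.FpfThree

open Subgroup Cfsg.Agent

universe u v

variable {G : Type u} [Group G]

/-- the hypothesis on an automorphism -/
structure Hyp (σ : MulAut G) : Prop where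
  cube : σ ^ 3 = 1
  three : ¬ 3 ∣ Nat.card G
  fix : ∀ x : G, σ x = x → Odd (orderOf x)

/-- invariant subgroups -/
def Inv (σ : MulAut G) (L : Subgroup G) : Prop := ∀ x ∈ L, σ x ∈ L

theorem Inv.map_eq [Finite G] {σ : MulAut G} {L : Subgroup G} (h : Inv σ L) :
    L.map (σ : G ≃* G).toMonoidHom = L := by
  refine eq_of_le_of_card_ge ?_ (card_map_of_injective (f := (σ : G ≃* G).toMonoidHom) σ.injective).ge
  rintro _ ⟨x, hx, rfl⟩
  exact h x hx

theorem inv_of_map {σ : MulAut G} {L : Subgroup G} (h : L.map (σ : G ≃* G).toMonoidHom = L) : Inv σ L :=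
  fun x hx => h ▸ mem_map_of_mem _ hx

theorem Inv.mem_iff [Finite G] {σ : MulAut G} {L : Subgroup G} (h : Inv σ L) {x : G} : σ x ∈ L ↔ x ∈ L := by
  refine ⟨fun hx => ?_, h x⟩
  rw [← h.map_eq] at hx
  obtain ⟨y, hy, he⟩ := hx
  exact σ.injective he ▸ hy

theorem Inv.top {σ : MulAut G} : Inv σ (⊤ : Subgroup G) := fun _ _ => mem_top _

theorem Inv.inf {σ : MulAut G} {L M : Subgroup G} (h : Inv σ L) (k : Inv σ M) : Inv σ (L ⊓ M) :=
  fun x hx => ⟨h x hx.1, k x hx.2⟩

theorem Inv.sup {σ : MulAut G} {L M : Subgroup G} (h : Inv σ L) (k : Inv σ M) : Inv σ (L ⊔ M) := by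
  intro x hx
  exact (sup_le (fun y hy => mem_sup_left (h y hy)) (fun y hy => mem_sup_right (k y hy)) :
    L ⊔ M ≤ (L ⊔ M).comap (σ : G ≃* G).toMonoidHom) hx

theorem inv_closure {σ : MulAut G} {s : Set G} (h : ∀ x ∈ s, σ x ∈ closure s) : Inv σ (closure s) :=
  fun _ hx => ((closure_le ((closure s).comap (σ : G ≃* G).toMonoidHom)).mpr h) hx

theorem inv_iSup {ι : Sort*} {σ : MulAut G} {L : ι → Subgroup G} (h : ∀ i, ∀ x ∈ L i, σ x ∈ ⨆ j, L j) :
    Inv σ (⨆ i, L i) :=
  fun _ hx => (iSup_le (a := (⨆ j, L j).comap (σ : G ≃* G).toMonoidHom) h) hx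

theorem inv_pCore (σ : MulAut G) (p : ℕ) : Inv σ (Cfsg.pCore p G) := inv_of_map (Cores.pCore_map_mulEquiv σ)

theorem inv_pPrimeCore [Finite G] (σ : MulAut G) (p : ℕ) : Inv σ (Cfsg.pPrimeCore p G) :=
  inv_of_map (Cores.pPrimeCore_map_mulEquiv σ)

theorem inv_center (σ : MulAut G) : Inv σ (center G) := fun x hx => by
  rw [mem_center_iff] at hx ⊢
  intro y
  obtain ⟨z, rfl⟩ := σ.surjective y
  rw [← map_mul, ← map_mul, hx z]

theorem Inv.normalizer [Finite G] {σ : MulAut G} {L : Subgroup G} (h : Inv σ L) :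
    Inv σ (Subgroup.normalizer (L : Set G)) := by
  intro x hx
  rw [mem_normalizer_iff] at hx ⊢
  intro y
  obtain ⟨z, rfl⟩ := σ.surjective y
  rw [h.mem_iff, ← map_inv, ← map_mul, ← map_mul, h.mem_iff]
  exact hx z

theorem Inv.centralizer [Finite G] {σ : MulAut G} {L : Subgroup G} (h : Inv σ L) :
    Inv σ (Subgroup.centralizer (L : Set G)) := by
  intro x hx
  rw [mem_centralizer_iff] at hx ⊢
  intro y hy
  obtain ⟨z, rfl⟩ := σ.surjective y
  rw [← map_mul, ← map_mul, hx z (h.mem_iff.mp hy)]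

theorem Inv.comap {H : Type v} [Group H] {σ : MulAut G} {τ : MulAut H} {L : Subgroup H} (f : G →* H)
    (hf : ∀ x, f (σ x) = τ (f x)) (h : Inv τ L) : Inv σ (L.comap f) := fun x hx => by
  show f (σ x) ∈ L
  rw [hf]
  exact h _ hx

theorem Inv.image {H : Type v} [Group H] {σ : MulAut G} {τ : MulAut H} {L : Subgroup G} (f : G →* H)
    (hf : ∀ x, f (σ x) = τ (f x)) (h : Inv σ L) : Inv τ (L.map f) := by
  rintro _ ⟨x, hx, rfl⟩
  exact ⟨σ x, h x hx, hf x⟩

/-- restriction to an invariant subgroup -/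
def resAut [Finite G] (σ : MulAut G) (L : Subgroup G) (h : Inv σ L) : MulAut L :=
  ((σ : G ≃* G).subgroupMap L).trans (MulEquiv.subgroupCongr h.map_eq)

theorem resAut_apply [Finite G] {σ : MulAut G} {L : Subgroup G} (h : Inv σ L) (x : L) :
    ((resAut σ L h x : L) : G) = σ x := rfl

/-- the automorphism of a quotient by an invariant normal subgroup -/
def quotAut [Finite G] (σ : MulAut G) (N : Subgroup G) [N.Normal] (h : Inv σ N) : MulAut (G ⧸ N) :=
  QuotientGroup.congr N N (σ : G ≃* G) h.map_eq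

theorem quotAut_mk [Finite G] {σ : MulAut G} {N : Subgroup G} [N.Normal] (h : Inv σ N) (x : G) :
    quotAut σ N h (QuotientGroup.mk' N x) = QuotientGroup.mk' N (σ x) := rfl

theorem Hyp.apply_three {σ : MulAut G} (h : Hyp σ) (x : G) : σ (σ (σ x)) = x := by
  have := congrArg (fun f : MulAut G => f x) h.cube
  simpa [pow_succ] using this

theorem Hyp.res [Finite G] {σ : MulAut G} (h : Hyp σ) {L : Subgroup G} (hL : Inv σ L) :
    Hyp (resAut σ L hL) where
  cube := MulEquiv.ext fun x => Subtype.ext (by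
    simp only [pow_succ, pow_zero, one_mul, MulAut.mul_apply, MulAut.one_apply]
    exact h.apply_three x)
  three hd := h.three (hd.trans L.card_subgroup_dvd_card)
  fix x hx := by
    rw [← orderOf_coe]
    exact h.fix _ (congrArg Subtype.val hx)

section Act

variable [Finite G] {σ : MulAut G}

theorem Hyp.coprime (h : Hyp σ) : (Nat.card (zpowers σ)).Coprime (Nat.card G) := by
  refine Nat.Coprime.coprime_dvd_left ?_ (Nat.prime_three.coprime_iff_not_dvd.mpr h.three)
  rw [Nat.card_zpowers]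
  exact orderOf_dvd_of_pow_eq_one h.cube

theorem Hyp.solv (_h : Hyp σ) : Group.IsSolvable (zpowers σ) ∨ Group.IsSolvable G :=
  Or.inl (Coprime.isSolvable_zpowers σ)

theorem Inv.isInvariant {L : Subgroup G} (h : Inv σ L) : Coprime.IsInvariant (zpowers σ) L := by
  rintro ⟨a, ha⟩ x hx
  show a x ∈ L
  obtain ⟨n, rfl⟩ := mem_powers_iff_mem_zpowers.mpr ha
  show (σ ^ n) x ∈ L
  clear ha
  induction n generalizing x with
  | zero => simpa using hx
  | succ n ih => rw [pow_succ, MulAut.mul_apply]; exact ih _ (h x hx)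

theorem inv_of_isInvariant {L : Subgroup G} (h : Coprime.IsInvariant (zpowers σ) L) : Inv σ L :=
  fun x hx => h ⟨σ, mem_zpowers σ⟩ x hx

theorem fixed_of_mem {c : G} (hc : c ∈ FixedPoints.subgroup (zpowers σ) G) : σ c = c :=
  hc ⟨σ, mem_zpowers σ⟩

/-- an invariant coset contains a fixed point -/
theorem Hyp.lift (h : Hyp σ) {N : Subgroup G} (hN : Inv σ N) {g : G} (hg : g⁻¹ * σ g ∈ N) :
    ∃ c, σ c = c ∧ g⁻¹ * c ∈ N := by
  have hfix : ∀ a : zpowers σ, g⁻¹ * a • g ∈ N := by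
    rintro ⟨a, ha⟩
    show g⁻¹ * a g ∈ N
    obtain ⟨n, rfl⟩ := mem_powers_iff_mem_zpowers.mpr ha
    show g⁻¹ * (σ ^ n) g ∈ N
    clear ha
    induction n with
    | zero => simp
    | succ n ih =>
      have hi : ∀ m : ℕ, ∀ x ∈ N, (σ ^ m) x ∈ N := fun m => by
        induction m with
        | zero => simp
        | succ m im => intro x hx; rw [pow_succ, MulAut.mul_apply]; exact im _ (hN x hx)
      have := mul_mem ih (hi n _ hg)
      rw [pow_succ, MulAut.mul_apply]
      simpa [mul_assoc] using this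
  obtain ⟨c, hc, hcn⟩ := Coprime.exists_fixed_mem_coset h.coprime h.solv hN.isInvariant hfix
  exact ⟨c, fixed_of_mem hc, hcn⟩

theorem Hyp.quot (h : Hyp σ) {N : Subgroup G} [N.Normal] (hN : Inv σ N) : Hyp (quotAut σ N hN) where
  cube := MulEquiv.ext fun x => by
    obtain ⟨x, rfl⟩ := QuotientGroup.mk'_surjective N x
    simp only [pow_succ, pow_zero, one_mul, MulAut.mul_apply, MulAut.one_apply, quotAut_mk, h.apply_three]
  three hd := h.three (hd.trans (card_quotient_dvd_card N))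
  fix x hx := by
    obtain ⟨g, rfl⟩ := QuotientGroup.mk'_surjective N x
    obtain ⟨c, hc, hcn⟩ := h.lift hN (g := g) (QuotientGroup.eq.mp hx.symm)
    have he : QuotientGroup.mk' N g = QuotientGroup.mk' N c := QuotientGroup.eq.mpr hcn
    rw [he]
    exact (h.fix c hc).of_dvd_nat (orderOf_map_dvd _ c)

theorem Hyp.exists_sylow (h : Hyp σ) (p : ℕ) [Fact p.Prime] : ∃ P : Sylow p G, Inv σ (P : Subgroup G) := by
  obtain ⟨P, hP⟩ := Coprime.exists_invariant_sylow' h.coprime h.solv p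
  exact ⟨P, inv_of_isInvariant hP⟩

/-- no fixed points in a 2-subgroup -/
theorem Hyp.eq_one (h : Hyp σ) {L : Subgroup G} (hL : IsPGroup 2 L) {x : G} (hx : x ∈ L) (hf : σ x = x) :
    x = 1 := by
  obtain ⟨n, hn⟩ := (IsPGroup.iff_orderOf.mp hL) ⟨x, hx⟩
  rw [Subgroup.orderOf_mk] at hn
  rcases n with _ | n
  · exact orderOf_eq_one_iff.mp (by simpa using hn)
  · have := h.fix x hf
    rw [hn, Nat.odd_pow_iff (Nat.succ_ne_zero _)] at this
    exact absurd this (by decide)

/-- every element of an invariant 2-subgroup is a commutator with `σ` -/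
theorem Hyp.exists_comm (h : Hyp σ) {L : Subgroup G} (hL : IsPGroup 2 L) (hi : Inv σ L) {u : G}
    (hu : u ∈ L) : ∃ s ∈ L, u = s⁻¹ * σ s := by
  let f : L → L := fun s => ⟨(s : G)⁻¹ * σ s, mul_mem (inv_mem s.2) (hi s s.2)⟩
  have hinj : Function.Injective f := fun s t hst => by
    have he : (s : G)⁻¹ * σ s = (t : G)⁻¹ * σ t := congrArg Subtype.val hst
    have h1 : σ ((t : G) * (s : G)⁻¹) = (t : G) * (s : G)⁻¹ := by
      rw [map_mul, map_inv]
      calc σ (t : G) * (σ (s : G))⁻¹ = (t : G) * ((t : G)⁻¹ * σ t) * (((s : G)⁻¹ * σ s))⁻¹ * (s : G)⁻¹ := by group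
        _ = (t : G) * (s : G)⁻¹ := by rw [he]; group
    exact Subtype.ext (mul_inv_eq_one.mp (h.eq_one hL (mul_mem t.2 (inv_mem s.2)) h1)).symm
  obtain ⟨s, hs⟩ := Finite.surjective_of_injective hinj ⟨u, hu⟩
  exact ⟨s, s.2, (congrArg Subtype.val hs).symm⟩

end Act

end Cfsg.Agent.H52.FpfThree
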