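import Cfsg.Prelude.Def_Local
import Cfsg.Agent.Cores.PCore
import Cfsg.Agent.Cores.Constrained
import Cfsg.Agent.Cores.PSolvable
import Cfsg.Agent.Coprime.Basic

/-!
Small facts on a Sylow 2-subgroup modulo the core, mostly in solvable groups.
-/

set_option autoImplicit false
set_option linter.style.haveILetI false

namespace Cfsg.Agent.H52.FpfThree

open Subgroup Cfsg Cfsg.Agent
open scoped commutatorElement

universe u

variable {L : Type u} [Group L] [Finite L]

/-- an element lying over the 2-core of `L / O(L)` is a product from a Sylow subgroup and `O(L)` -/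
theorem exists_mul_of_mem_core (S : Sylow 2 L) {x : L}
    (hx : QuotientGroup.mk' (Cfsg.pPrimeCore 2 L) x ∈ Cfsg.pCore 2 (L ⧸ Cfsg.pPrimeCore 2 L)) :
    ∃ s ∈ (S : Subgroup L), ∃ o ∈ Cfsg.pPrimeCore 2 L, x = s * o := by
  haveI : Fact (Nat.Prime 2) := ⟨Nat.prime_two⟩
  have h := Cores.pCore_le_sylow (S.mapSurjective (QuotientGroup.mk'_surjective (Cfsg.pPrimeCore 2 L))) hx
  obtain ⟨s, hs, he⟩ := h
  exact ⟨s, hs, s⁻¹ * x, QuotientGroup.eq.mp he, (mul_inv_cancel_left s x).symm⟩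

theorem core_commute {A : Subgroup L} [A.Normal] (hA : IsPGroup 2 A) {o x : L}
    (ho : o ∈ Cfsg.pPrimeCore 2 L) (hx : x ∈ A) : o * x = x * o := by
  haveI : Fact (Nat.Prime 2) := ⟨Nat.prime_two⟩
  exact Cores.commute_pCore_pPrimeCore (Cores.le_pCore hA hx) ho |>.symm

/-- elements over the core centralize a normal subgroup of the centre of a Sylow subgroup -/
theorem pPrimePCore_commute (S : Sylow 2 L) {A : Subgroup L} [A.Normal] (hAS : A ≤ (S : Subgroup L))
    (hAc : ∀ x ∈ A, ∀ s ∈ (S : Subgroup L), s * x = x * s) {p x : L} (hp : p ∈ Cfsg.pPrimePCore 2 L)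
    (hx : x ∈ A) : p * x = x * p := by
  obtain ⟨s, hs, o, ho, rfl⟩ := exists_mul_of_mem_core S hp
  rw [mul_assoc, core_commute (S.isPGroup'.to_le hAS) ho hx, ← mul_assoc, hAc x hx s hs, mul_assoc]

/-- with odd index the preimage of the core contains every Sylow subgroup -/
theorem sylow_le_pPrimePCore (h : ¬ 2 ∣ (Cfsg.pPrimePCore 2 L).index) (S : Sylow 2 L) :
    (S : Subgroup L) ≤ Cfsg.pPrimePCore 2 L := by
  haveI : Fact (Nat.Prime 2) := ⟨Nat.prime_two⟩
  haveI : (Cfsg.pCore 2 (L ⧸ Cfsg.pPrimeCore 2 L)).Normal := Cfsg.pCore_normal 2 _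
  haveI : (Cfsg.pPrimePCore 2 L).Normal := by unfold Cfsg.pPrimePCore; infer_instance
  intro s hs
  obtain ⟨n, hn⟩ := IsPGroup.iff_orderOf.mp S.isPGroup' ⟨s, hs⟩
  rw [Subgroup.orderOf_mk] at hn
  refine (QuotientGroup.eq_one_iff _).mp (orderOf_eq_one_iff.mp (Nat.eq_one_of_dvd_coprimes
    ((Nat.prime_two.coprime_iff_not_dvd.mpr h).pow_left n)
    (show orderOf (QuotientGroup.mk' (Cfsg.pPrimePCore 2 L) s) ∣ 2 ^ n from hn ▸ orderOf_map_dvd _ s) ?_))
  rw [index_eq_card]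
  exact orderOf_dvd_natCard _

section Solvable

variable [Group.IsSolvable L]

theorem quotient_constrained :
    centralizer (Cfsg.pCore 2 (L ⧸ Cfsg.pPrimeCore 2 L) : Set (L ⧸ Cfsg.pPrimeCore 2 L)) ≤
      Cfsg.pCore 2 (L ⧸ Cfsg.pPrimeCore 2 L) := by
  haveI : Fact (Nat.Prime 2) := ⟨Nat.prime_two⟩
  exact Cores.centralizer_pCore_le Cores.isPSolvable_of_isSolvable
    (Cores.pPrimeCore_quotient_pPrimeCore (p := 2) (G := L))

/-- a conjugate of a central element of a Sylow subgroup returns to it by the odd core -/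
theorem exists_core_conj (S : Sylow 2 L) {x : L} (hx : x ∈ (S : Subgroup L))
    (hc : ∀ s ∈ (S : Subgroup L), s * x = x * s) (g : L) :
    ∃ o ∈ Cfsg.pPrimeCore 2 L, o * (g * x * g⁻¹) * o⁻¹ ∈ (S : Subgroup L) := by
  haveI : Fact (Nat.Prime 2) := ⟨Nat.prime_two⟩
  set O := Cfsg.pPrimeCore 2 L with hO
  set π := QuotientGroup.mk' O with hπ
  haveI : (Cfsg.pCore 2 (L ⧸ O)).Normal := Cfsg.pCore_normal 2 _
  set F := Cfsg.pCore 2 (L ⧸ O) with hF
  have hxF : π x ∈ F := by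
    refine quotient_constrained (L := L) (mem_centralizer_iff.mpr fun f hf => ?_)
    obtain ⟨s, hs, rfl⟩ := Cores.pCore_le_sylow (S.mapSurjective (QuotientGroup.mk'_surjective O)) hf
    show π s * π x = π x * π s
    rw [← map_mul, ← map_mul, hc s hs]
  have hyF : π (g * x * g⁻¹) ∈ F := by
    rw [map_mul, map_mul, map_inv]
    exact Subgroup.Normal.conj_mem inferInstance _ hxF _
  set M := (S : Subgroup L) ⊔ O with hM
  obtain ⟨s₀, hs₀, o₀, ho₀, he⟩ := exists_mul_of_mem_core S hyF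
  have hyM : g * x * g⁻¹ ∈ M := he ▸ mul_mem (mem_sup_left hs₀) (mem_sup_right ho₀)
  set y : M := ⟨g * x * g⁻¹, hyM⟩ with hy
  have hyp : IsPGroup 2 (zpowers y) := by
    have h1 : IsPGroup 2 (((zpowers x).map (MulAut.conj g).toMonoidHom).comap M.subtype) :=
      ((S.isPGroup'.to_le (zpowers_le.mpr hx)).map _).comap_of_injective _ M.subtype_injective
    exact h1.to_le (zpowers_le.mpr ⟨x, mem_zpowers x, rfl⟩)
  obtain ⟨T, hT⟩ := hyp.exists_le_sylow
  obtain ⟨m, hm⟩ := MulAction.exists_smul_eq M T (S.subtype (le_sup_left : (S : Subgroup L) ≤ M))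
  have h2 : m * y * m⁻¹ ∈ ((S.subtype (le_sup_left : (S : Subgroup L) ≤ M) : Sylow 2 M) : Subgroup M) := by
    rw [← hm]
    exact ⟨y, hT (mem_zpowers y), rfl⟩
  rw [Sylow.coe_subtype, mem_subgroupOf] at h2
  obtain ⟨t, ht, o, ho, hto⟩ : ∃ t ∈ (S : Subgroup L), ∃ o ∈ O, t * o = (m : L) := by
    have hmem : (m : L) ∈ (S : Subgroup L) ⊔ O := m.2
    rw [mem_sup_of_normal_right] at hmem
    exact hmem
  refine ⟨o, ho, ?_⟩
  have := mul_mem (mul_mem (inv_mem ht) h2) ht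
  simp only [Subgroup.coe_mul, Subgroup.coe_inv, ← hto, hy, mul_inv_rev] at this
  simpa [mul_assoc] using this

/-- an odd subgroup normalized by a Sylow 2-subgroup lies in the odd core -/
theorem le_core_of_normalized (S : Sylow 2 L) {X : Subgroup L} (hX : Odd (Nat.card X))
    (hS : ∀ s ∈ (S : Subgroup L), ∀ x ∈ X, s * x * s⁻¹ ∈ X) : X ≤ Cfsg.pPrimeCore 2 L := by
  haveI : Fact (Nat.Prime 2) := ⟨Nat.prime_two⟩
  set O := Cfsg.pPrimeCore 2 L with hO
  set π := QuotientGroup.mk' O with hπ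
  haveI : (Cfsg.pCore 2 (L ⧸ O)).Normal := Cfsg.pCore_normal 2 _
  set F := Cfsg.pCore 2 (L ⧸ O) with hF
  have hcop : ∀ z ∈ F, z ∈ X.map π → z = 1 := by
    intro z hz hz'
    obtain ⟨n, hn⟩ := IsPGroup.iff_orderOf.mp (Cores.pCore_isPGroup (p := 2) (G := L ⧸ O)) ⟨z, hz⟩
    rw [Subgroup.orderOf_mk] at hn
    refine orderOf_eq_one_iff.mp (Nat.eq_one_of_dvd_coprimes ((Nat.coprime_two_left.mpr hX).pow_left n) (hn ▸ dvd_rfl) ?_)
    exact (Subgroup.orderOf_dvd_natCard _ hz').trans (X.card_map_dvd π)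
  intro x hx
  refine (QuotientGroup.eq_one_iff x).mp (hcop (π x) ?_ (mem_map_of_mem π hx))
  refine quotient_constrained (L := L) (mem_centralizer_iff.mpr fun f hf => ?_)
  rw [← commutatorElement_eq_one_iff_mul_comm]
  obtain ⟨s, hs, rfl⟩ := Cores.pCore_le_sylow (S.mapSurjective (QuotientGroup.mk'_surjective O)) hf
  change ⁅π s, π x⁆ = 1
  refine hcop _ ?_ ?_
  · rw [commutatorElement_def, mul_assoc, mul_assoc, ← mul_assoc (π x)]
    exact mul_mem hf (Subgroup.Normal.conj_mem inferInstance _ (inv_mem hf) _)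
  · rw [← map_commutatorElement]
    exact mem_map_of_mem π (mul_mem (hS s hs x hx) (inv_mem hx))

end Solvable

end Cfsg.Agent.H52.FpfThree
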