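import Cfsg.Agent.H52.FpfThree.Structure
import Cfsg.Agent.H52.FpfThree.Solv
import Cfsg.Agent.Thompson.SfourClosed
import Cfsg.Agent.S1997
import Cfsg.Agent.S3779

/-!
The central, strongly closed subgroup `A = Ω₁Z(S)` for an invariant Sylow 2-subgroup `S`.
-/

set_option autoImplicit false
set_option linter.style.haveILetI false

namespace Cfsg.Agent.H52.FpfThree

open Subgroup Cfsg Cfsg.Agent
open _root_.Cfsg.Agent.Thompson (jay)
open _root_.Cfsg.Agent.Thompson.FourFree (jeFun)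
open scoped commutatorElement

universe u

variable {G : Type u} [Group G] [Finite G] {σ : MulAut G}

/-- an invariant 2-subgroup has class at most two -/
theorem Hyp.class_two (h : Hyp σ) {S : Subgroup G} (hS : IsPGroup 2 S) (hi : Inv σ S) :
    ⁅⁅S, S⁆, S⁆ = ⊥ := by
  rcases eq_or_ne S ⊥ with rfl | hne
  · exact le_bot_iff.mp (commutator_le.mpr fun x _ y hy => by rw [mem_bot.mp hy]; simp)
  have hfix : ∀ x : S, resAut σ S hi x = x → x = 1 := fun x hx =>
    Subtype.ext (h.eq_one hS x.2 (congrArg Subtype.val hx))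
  have hα : orderOf (resAut σ S hi) = 3 := by
    haveI : Fact (Nat.Prime 3) := ⟨Nat.prime_three⟩
    refine orderOf_eq_prime (h.res hi).cube fun he => ?_
    haveI := S.nontrivial_iff_ne_bot.mpr hne
    obtain ⟨x, hx⟩ := exists_ne (1 : S)
    exact hx (hfix x (by rw [he]; rfl))
  have h2 := (Cfsg.Agent.S3779.result Nat.prime_three (resAut σ S hi) hα hfix).2.1 rfl
  rw [Subgroup.lowerCentralSeries_succ, Subgroup.lowerCentralSeries_succ, Subgroup.lowerCentralSeries_zero] at h2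
  have h3 := congrArg (Subgroup.map S.subtype) h2
  rw [map_commutator, map_commutator, Subgroup.map_bot, ← MonoidHom.range_eq_map, range_subtype] at h3
  exact h3

theorem Hyp.four_free (h : Hyp σ) : ¬ Cfsg.Involves (Equiv.Perm (Fin 4)) G := by
  rintro ⟨K, R, hn, ⟨e⟩⟩
  refine h.three (dvd_trans ?_ K.card_subgroup_dvd_card)
  refine dvd_trans ?_ (card_quotient_dvd_card (R.subgroupOf K))
  rw [Nat.card_congr e.toEquiv, Nat.card_eq_fintype_card, Fintype.card_perm, Fintype.card_fin]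
  decide

/-- the Thompson subgroup is normal in every constrained section -/
theorem section_jay (h : Hyp σ) (S : Sylow 2 G) (hS : Inv σ (S : Subgroup G)) (K R : Subgroup G)
    [(R.subgroupOf K).Normal]
    (hc : centralizer (Cfsg.pCore 2 (K ⧸ R.subgroupOf K) : Set (K ⧸ R.subgroupOf K)) ≤
      Cfsg.pCore 2 (K ⧸ R.subgroupOf K)) (T : Sylow 2 (K ⧸ R.subgroupOf K)) :
    normalizer (jay 2 (T : Subgroup (K ⧸ R.subgroupOf K)) : Set (K ⧸ R.subgroupOf K)) = ⊤ := by
  haveI : Fact (Nat.Prime 2) := ⟨Nat.prime_two⟩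
  set π := QuotientGroup.mk' (R.subgroupOf K) with hπ
  have hπs : Function.Surjective π := QuotientGroup.mk'_surjective _
  obtain ⟨T₀⟩ : Nonempty (Sylow 2 K) := inferInstance
  obtain ⟨q, hq⟩ := MulAction.exists_smul_eq (K ⧸ R.subgroupOf K) (T₀.mapSurjective hπs) T
  obtain ⟨P, hP⟩ := (T₀.isPGroup'.map K.subtype).exists_le_sylow
  obtain ⟨g, hg⟩ := MulAction.exists_smul_eq G S P
  have hcP : ⁅⁅(P : Subgroup G), (P : Subgroup G)⁆, (P : Subgroup G)⁆ = ⊥ := by
    rw [← hg, show (((g • S : Sylow 2 G)) : Subgroup G) = (S : Subgroup G).map (MulAut.conj g).toMonoidHom from rfl,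
      ← map_commutator, ← map_commutator, h.class_two S.isPGroup' hS, Subgroup.map_bot]
  have hc0 : ⁅⁅(T₀ : Subgroup K), (T₀ : Subgroup K)⁆, (T₀ : Subgroup K)⁆ = ⊥ := by
    apply map_injective K.subtype_injective
    rw [map_commutator, map_commutator, Subgroup.map_bot, eq_bot_iff, ← hcP]
    exact commutator_mono (commutator_mono hP hP) hP
  have hcl : Subgroup.lowerCentralSeries (T : Subgroup (K ⧸ R.subgroupOf K)) 2 = ⊥ := by
    rw [Subgroup.lowerCentralSeries_succ, Subgroup.lowerCentralSeries_succ, Subgroup.lowerCentralSeries_zero, ← hq,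
      show (((q • T₀.mapSurjective hπs : Sylow 2 _)) : Subgroup (K ⧸ R.subgroupOf K)) =
        ((T₀.mapSurjective hπs : Sylow 2 _) : Subgroup _).map (MulAut.conj q).toMonoidHom from rfl,
      Sylow.coe_mapSurjective, ← map_commutator, ← map_commutator, ← map_commutator, ← map_commutator, hc0,
      Subgroup.map_bot, Subgroup.map_bot]
  have hfree := Thompson.FourFree.sfour_free_section h.four_free K R
  have hle := Thompson.FourFree.thompson_le_pCore hfree hc T hcl
  haveI : (Cfsg.pCore 2 (K ⧸ R.subgroupOf K)).Normal := Cfsg.pCore_normal 2 _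
  rw [← Thompson.jay_eq_of_le hle (Cores.pCore_le_sylow T), eq_top_iff]
  exact (normalizer_eq_top (H := Cfsg.pCore 2 (K ⧸ R.subgroupOf K))).ge.trans
    (Thompson.normalizer_le_normalizer_jay 2 _)

/-- `Ω₁Z(S)` -/
def zee (S : Subgroup G) : Subgroup G := Cfsg.omegaOne 2 (S ⊓ centralizer (S : Set G))

theorem zee_le (S : Subgroup G) : zee S ≤ S ⊓ centralizer (S : Set G) :=
  (closure_le _).mpr fun _ hx => hx.1

theorem zee_comm {S : Subgroup G} {x s : G} (hx : x ∈ zee S) (hs : s ∈ S) : s * x = x * s :=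
  mem_centralizer_iff.mp (zee_le S hx).2 s hs

theorem zee_sq {S : Subgroup G} {x : G} (hx : x ∈ zee S) : x * x = 1 := by
  let T : Subgroup G :=
    { carrier := {z | z ∈ S ⊓ centralizer (S : Set G) ∧ z * z = 1}
      one_mem' := ⟨one_mem _, one_mul 1⟩
      mul_mem' := fun {a b} ha hb => ⟨mul_mem ha.1 hb.1, by
        rw [show a * b * (a * b) = a * (b * a) * b by group, mem_centralizer_iff.mp ha.1.2 b hb.1.1,
          show a * (a * b) * b = a * a * (b * b) by group, ha.2, hb.2, one_mul]⟩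
      inv_mem' := fun {a} ha => ⟨inv_mem ha.1, by rw [← mul_inv_rev, ha.2, inv_one]⟩ }
  exact ((closure_le T).mpr (fun z hz => ⟨hz.1, by rw [← sq]; exact hz.2⟩) hx).2

theorem inv_zee {S : Subgroup G} (hi : Inv σ S) : Inv σ (zee S) :=
  inv_of_map (by rw [zee, Thompson.FourFree.omegaOne_center_map _ σ.injective, hi.map_eq])

theorem normalizer_le_normalizer_zee (S : Subgroup G) :
    normalizer (S : Set G) ≤ normalizer (zee S : Set G) := fun g hg =>
  Coprime.mem_normalizer_of_map_conj (by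
    rw [zee, Thompson.FourFree.omegaOne_center_map _ (MulAut.conj g).injective,
      Thompson.map_conj_of_mem_normalizer hg])

theorem zee_le_jay (S : Subgroup G) : zee S ≤ jay 2 S := by
  refine (closure_le _).mpr fun z hz => ?_
  obtain ⟨A, hA⟩ := Thompson.maxIn_nonempty 2 S
  exact Thompson.le_jay hA (Thompson.mem_of_mem_centralizer hA hz.1.1 (centralizer_le hA.1 hz.1.2) hz.2)

theorem zee_ne_bot {S : Subgroup G} (hS : IsPGroup 2 S) (hne : S ≠ ⊥) : zee S ≠ ⊥ := by
  haveI : Fact (Nat.Prime 2) := ⟨Nat.prime_two⟩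
  haveI := S.nontrivial_iff_ne_bot.mpr hne
  haveI := hS.center_nontrivial
  obtain ⟨n, hn, hcard⟩ := (hS.to_subgroup (center S)).nontrivial_iff_card.mp ‹_›
  obtain ⟨z, hz⟩ := exists_prime_orderOf_dvd_card' (G := center S) 2 (hcard ▸ dvd_pow_self 2 hn.ne')
  intro hb
  have h1 : ((z : S) : G) ∈ zee S := subset_closure ⟨⟨(z : S).2, mem_centralizer_iff.mpr fun y hy =>
    congrArg Subtype.val (mem_center_iff.mp z.2 ⟨y, hy⟩)⟩, by
      rw [← SubmonoidClass.coe_pow, ← SubmonoidClass.coe_pow, ← hz, pow_orderOf_eq_one]; rfl⟩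
  rw [hb, mem_bot] at h1
  have : z = 1 := Subtype.ext (Subtype.ext h1)
  rw [this, orderOf_one] at hz
  exact absurd hz (by decide)

/-- strong closure and control of fusion -/
theorem closed_zee (h : Hyp σ) (S : Sylow 2 G) (hS : Inv σ (S : Subgroup G))
    (hsolv : Group.IsSolvable (normalizer (jay 2 (S : Subgroup G) : Set G))) :
    (∀ x ∈ zee (S : Subgroup G), ∀ g : G, g * x * g⁻¹ ∈ (S : Subgroup G) → g * x * g⁻¹ ∈ zee (S : Subgroup G)) ∧
    ∀ X : Set G, X ⊆ (S : Subgroup G) → ∀ g : G, (fun a => g * a * g⁻¹) '' X ⊆ (S : Subgroup G) →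
      ∃ n ∈ normalizer (zee (S : Subgroup G) : Set G), ∀ a ∈ X, g * a * g⁻¹ = n * a * n⁻¹ := by
  classical
  haveI : Fact (Nat.Prime 2) := ⟨Nat.prime_two⟩
  set J := jay 2 (S : Subgroup G) with hJ
  set Z := zee (S : Subgroup G) with hZ
  set N₁ := normalizer (J : Set G) with hN₁
  have hJi : Inv σ J := inv_of_map (by rw [hJ, ← Thompson.jay_map _ σ.injective, hS.map_eq])
  have hN₁i : Inv σ N₁ := hJi.normalizer
  have hSN : (S : Subgroup G) ≤ N₁ := le_normalizer.trans (Thompson.normalizer_le_normalizer_jay 2 _)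
  -- the normal closure is `Z`
  have hconj : ∀ n ∈ N₁, ∀ z ∈ Z, n * z * n⁻¹ ∈ Z := by
    haveI : Group.IsSolvable N₁ := hsolv
    obtain ⟨hidx, -⟩ := split (h.res hN₁i)
    set S₁ := S.subtype hSN with hS₁
    haveI : (Cfsg.pCore 2 (N₁ ⧸ Cfsg.pPrimeCore 2 N₁)).Normal := Cfsg.pCore_normal 2 _
    haveI : (Cfsg.pPrimePCore 2 N₁).Normal := by unfold Cfsg.pPrimePCore; infer_instance
    set P := Cfsg.pPrimePCore 2 N₁ with hP
    haveI : (J.subgroupOf N₁).Normal := normal_subgroupOf_of_le_normalizer le_rfl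
    intro n hn z hz
    have hfr := (S₁.subtype (sylow_le_pPrimePCore hidx S₁)).normalizer_sup_eq_top (N := P)
    have hmem : (⟨n, hn⟩ : N₁) ∈ P ⊔ normalizer ((S₁ : Subgroup N₁) : Set N₁) := by
      rw [Sylow.coe_subtype, subgroupOf_map_subtype, inf_eq_left.mpr (sylow_le_pPrimePCore hidx S₁), sup_comm] at hfr
      rw [hfr]
      exact mem_top _
    rw [mem_sup_of_normal_left] at hmem
    obtain ⟨p, hp, m, hm, hpm⟩ := hmem
    have hzS : z ∈ (S : Subgroup G) := (zee_le _ hz).1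
    -- `m` stabilizes `Z`
    have hmz : (m : G) * z * (m : G)⁻¹ ∈ Z := by
      have h1 : (m : G) ∈ normalizer ((S : Subgroup G) : Set G) := by
        have h2 := le_normalizer_map N₁.subtype ⟨m, hm, rfl⟩
        rw [hS₁, Sylow.coe_subtype, subgroupOf_map_subtype, inf_eq_left.mpr hSN] at h2
        exact h2
      exact (mem_normalizer_iff.mp (normalizer_le_normalizer_zee _ h1) z).mp hz
    set w := (m : G) * z * (m : G)⁻¹ with hw
    obtain ⟨s, hs, o, ho, rfl⟩ := exists_mul_of_mem_core S₁ hp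
    have hwJ : w ∈ J := zee_le_jay _ hmz
    have how : (o : G) * w = w * o := congrArg Subtype.val (core_commute (A := J.subgroupOf N₁)
      ((S.isPGroup'.to_le Thompson.jay_le).comap_of_injective _ N₁.subtype_injective) ho
      (show (⟨w, hSN (Thompson.jay_le hwJ)⟩ : N₁) ∈ J.subgroupOf N₁ from hwJ))
    have hsw : (s : G) * w = w * s := zee_comm hmz (by
      rw [hS₁, Sylow.coe_subtype] at hs; exact hs)
    have he : n = (s : G) * o * m := (congrArg Subtype.val hpm).symm
    have : n * z * n⁻¹ = (s : G) * ((o : G) * w * (o : G)⁻¹) * (s : G)⁻¹ := by rw [he, hw]; group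
    rw [this, how, mul_inv_cancel_right, hsw, mul_inv_cancel_right]
    exact hmz
  have hZN : Z ≤ N₁ := ((zee_le _).trans inf_le_left).trans hSN
  have hA : (Subgroup.normalClosure ((Z.subgroupOf N₁ : Subgroup N₁) : Set N₁)).map N₁.subtype = Z := by
    haveI : (Z.subgroupOf N₁).Normal := ⟨fun z hz n => hconj n n.2 z hz⟩
    rw [normalClosure_eq_self, subgroupOf_map_subtype, inf_eq_left.mpr hZN]
  have hres := Cfsg.Agent.S1997.result (p := 2) S jeFun jeFun Thompson.FourFree.isCharPFunctor_jeFun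
    Thompson.FourFree.isCharPFunctor_jeFun (fun K R _ hc T => by
      have htop := section_jay h S hS K R hc T
      have hb : ∀ x : ↥K ⧸ R.subgroupOf K, x ∈ normalizer ((Cfsg.inducedFunctor jeFun
          (T : Subgroup (↥K ⧸ R.subgroupOf K)) : Subgroup _) : Set (↥K ⧸ R.subgroupOf K)) := fun x => by
        rw [Thompson.FourFree.inducedFunctor_jeFun, htop]; exact mem_top x
      exact ⟨fun x => ⟨1, one_mem _, x, hb x, (one_mul x).symm⟩, fun x => ⟨1, one_mem _, x, hb x, (one_mul x).symm⟩,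
        fun x => ⟨1, one_mem _, x, hb x, (one_mul x).symm⟩⟩)
    (by
      rw [Thompson.FourFree.inducedFunctor_jeFun, inf_idem]
      exact zee_le_jay _)
    N₁ (by rw [Thompson.FourFree.inducedFunctor_jeFun]) Z hA.symm
  obtain ⟨-, -, ⟨-, hcl⟩, T, hZT, hT⟩ := hres
  refine ⟨hcl, fun X hX g hg => ?_⟩
  obtain ⟨t, rfl⟩ := MulAction.exists_smul_eq G S T
  have htT : ∀ z ∈ Z, t⁻¹ * z * t ∈ (S : Subgroup G) := fun z hz => by
    obtain ⟨w, hw, he⟩ := hZT hz
    rw [← he]
    show t⁻¹ * (t * w * t⁻¹) * t ∈ (S : Subgroup G)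
    rw [show t⁻¹ * (t * w * t⁻¹) * t = w by group]; exact hw
  have htN : t ∈ normalizer (Z : Set G) := by
    refine inv_mem_iff.mp (Coprime.mem_normalizer_of_map_conj (eq_of_le_of_card_ge ?_
      (card_map_of_injective (MulAut.conj t⁻¹).injective).ge))
    rintro _ ⟨z, hz, rfl⟩
    have := hcl z hz t⁻¹ (by simpa using htT z hz)
    simpa using this
  have hXT : ∀ {Y : Set G}, Y ⊆ (S : Subgroup G) →
      (fun a => t * a * t⁻¹) '' Y ⊆ ((t • S : Sylow 2 G) : Subgroup G) := by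
    rintro Y hY _ ⟨a, ha, rfl⟩
    exact ⟨a, hY ha, rfl⟩
  obtain ⟨-, hfus⟩ := hT _ (hXT hX)
  obtain ⟨x, hx, hxe⟩ := hfus (t * g * t⁻¹) (by
    rintro _ ⟨_, ⟨a, ha, rfl⟩, rfl⟩
    have := hXT hg ⟨_, ⟨a, ha, rfl⟩, rfl⟩
    simpa [mul_assoc] using this)
  refine ⟨t⁻¹ * x * t, mul_mem (mul_mem (inv_mem htN) hx) htN, fun a ha => ?_⟩
  have he := hxe _ ⟨a, ha, rfl⟩
  calc g * a * g⁻¹ = t⁻¹ * (t * g * t⁻¹ * (t * a * t⁻¹) * (t * g * t⁻¹)⁻¹) * t := by group
    _ = t⁻¹ * (x * (t * a * t⁻¹) * x⁻¹) * t := by rw [he]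
    _ = _ := by group

end Cfsg.Agent.H52.FpfThree
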