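import Mathlib

/-!
Two classes of involutions, each fixing at most one point and central in every 2-subgroup containing them:
the transitive set has one point.
-/

set_option autoImplicit false
set_option linter.style.haveILetI false

namespace Cfsg.Agent.H52.FpfThree

open Subgroup

universe u v

theorem exists_conj_of_odd {G : Type u} [Group G] {a b : G} (ha : a * a = 1) (hb : b * b = 1)
    (hodd : Odd (orderOf (a * b))) : ∃ g : G, g * b * g⁻¹ = a := by
  obtain ⟨k, hk⟩ := hodd
  set z := a * b with hz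
  have hinv : b * z * b⁻¹ = z⁻¹ := by
    rw [hz, mul_inv_rev, inv_eq_of_mul_eq_one_left ha, inv_eq_of_mul_eq_one_left hb,
      mul_assoc, mul_assoc, hb, mul_one]
  have hpow : b * z ^ (k + 1) * b⁻¹ = (z ^ (k + 1))⁻¹ := by rw [← conj_pow, hinv, inv_pow]
  refine ⟨z ^ (k + 1), ?_⟩
  calc z ^ (k + 1) * b * (z ^ (k + 1))⁻¹ = z ^ (k + 1) * b * (b * z ^ (k + 1) * b⁻¹) := by rw [hpow]
    _ = z ^ (k + 1) * (b * b) * z ^ (k + 1) * b⁻¹ := by group
    _ = z ^ (k + 1) * z ^ (k + 1) * b⁻¹ := by rw [hb, mul_one]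
    _ = z ^ (2 * k + 1) * z * b⁻¹ := by rw [← pow_add, ← pow_succ]; congr 2; ring
    _ = a := by rw [← hk, pow_orderOf_eq_one, one_mul, hz, mul_inv_cancel_right]

theorem exists_central_of_even {G : Type u} [Group G] [Finite G] {a b : G} (ha : a * a = 1) (hb : b * b = 1)
    (heven : Even (orderOf (a * b))) : ∃ u : G, u ≠ 1 ∧ u * u = 1 ∧ a * u = u * a ∧ b * u = u * b := by
  obtain ⟨k, hk⟩ := heven
  set z := a * b with hz
  have hpos := orderOf_pos z
  have hu2 : z ^ k * z ^ k = 1 := by rw [← pow_add, ← hk, pow_orderOf_eq_one]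
  have hai : a⁻¹ = a := inv_eq_of_mul_eq_one_left ha
  have hbi : b⁻¹ = b := inv_eq_of_mul_eq_one_left hb
  have hui : (z ^ k)⁻¹ = z ^ k := inv_eq_of_mul_eq_one_left hu2
  have h1 : a * z ^ k * a⁻¹ = (z ^ k)⁻¹ := by
    rw [← conj_pow, ← inv_pow, hz, mul_inv_rev, hbi, hai, ← mul_assoc, ha, one_mul]
  have h2 : b * z ^ k * b⁻¹ = (z ^ k)⁻¹ := by
    rw [← conj_pow, ← inv_pow, hz, mul_inv_rev, hbi, hai, mul_assoc, mul_assoc, hb, mul_one]
  refine ⟨z ^ k, pow_ne_one_of_lt_orderOf (by omega) (by omega), hu2, ?_, ?_⟩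
  · rw [hui, mul_inv_eq_iff_eq_mul] at h1; exact h1
  · rw [hui, mul_inv_eq_iff_eq_mul] at h2; exact h2

/-- the hypotheses on the set of involutions -/
structure Spots (G : Type u) [Group G] (Ω : Type v) [MulAction G Ω] (A : Set G) : Prop where
  conj : ∀ x ∈ A, ∀ g : G, g * x * g⁻¹ ∈ A
  ne_one : ∀ x ∈ A, x ≠ 1
  sq : ∀ x ∈ A, x * x = 1
  one : ∀ x ∈ A, ∀ α β : Ω, x • α = α → x • β = β → α = β
  prod : ∀ x ∈ A, ∀ y ∈ A, x ≠ y → x * y = y * x → x * y ∈ A
  cent : ∀ (T : Subgroup G), IsPGroup 2 T → ∀ x ∈ A, x ∈ T → ∀ t ∈ T, t * x = x * t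

set_option maxHeartbeats 4000000 in
theorem subsingleton_of_spots : ∀ (n : ℕ) (G : Type u) [Group G] [Finite G] (Ω : Type v) [MulAction G Ω]
    [MulAction.IsPretransitive G Ω] (A : Set G), Nat.card G ≤ n → Spots G Ω A → ∀ a ∈ A, ∀ b ∈ A,
      (∃ α : Ω, a • α = α) → (∃ β : Ω, b • β = β) → (∀ g : G, g * b * g⁻¹ ≠ a) → Subsingleton Ω := by
  intro n
  induction n with
  | zero => intro G _ _ Ω _ _ A hn; exact absurd hn (by have := Nat.card_pos (α := G); omega)
  | succ n ih =>
    intro G _ _ Ω _ _ A hn hA a ha b hb ⟨α, hα⟩ ⟨β₀, hβ₀⟩ hnc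
    haveI : Fact (Nat.Prime 2) := ⟨Nat.prime_two⟩
    by_contra hne
    obtain ⟨β, hβα⟩ : ∃ β : Ω, β ≠ α := by
      by_contra! h
      exact hne ⟨fun x y => (h x).trans (h y).symm⟩
    obtain ⟨g, hg⟩ := MulAction.exists_smul_eq G β₀ β
    set c := g * b * g⁻¹ with hc
    have hcA : c ∈ A := hA.conj b hb g
    have hcβ : c • β = β := by rw [hc, ← hg, mul_smul, mul_smul, inv_smul_smul, hβ₀]
    have hnc' : ∀ x : G, x * c * x⁻¹ ≠ a := fun x hx => hnc (x * g) (by rw [← hx, hc]; group)
    -- a fixed point of both forces `β = α`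
    have hcom : ∀ d ∈ A, a * d = d * a → d • α = α := fun d _ hd =>
      hA.one a ha _ _ (by rw [← mul_smul, hd, mul_smul, hα]) hα
    have hodd : ¬ Odd (orderOf (a * c)) := fun h =>
      (exists_conj_of_odd (hA.sq a ha) (hA.sq c hcA) h).elim hnc'
    obtain ⟨u, hu1, hu2, hua, huc⟩ :=
      exists_central_of_even (hA.sq a ha) (hA.sq c hcA) (Nat.not_odd_iff_even.mp hodd)
    have huα : u • α = α := hA.one a ha _ _ (by rw [← mul_smul, hua, mul_smul, hα]) hα
    have huβ : u • β = β := hA.one c hcA _ _ (by rw [← mul_smul, huc, mul_smul, hcβ]) hcβ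
    have huA : u ∉ A := fun h => hβα (hA.one u h _ _ huβ huα)
    set H := centralizer ({u} : Set G) with hH
    have haH : a ∈ H := mem_centralizer_singleton_iff.mpr hua
    have hcH : c ∈ H := mem_centralizer_singleton_iff.mpr huc
    -- a conjugate of `c` in a Sylow subgroup at `a`
    have hza : IsPGroup 2 (zpowers (⟨a, haH⟩ : H)) := IsPGroup.of_card (n := 1) (by
      rw [Nat.card_zpowers, pow_one]
      exact orderOf_eq_prime (Subtype.ext (by rw [SubmonoidClass.coe_pow, sq]; exact hA.sq a ha))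
        (fun h => hA.ne_one a ha (congrArg Subtype.val h)))
    have hzc : IsPGroup 2 (zpowers (⟨c, hcH⟩ : H)) := IsPGroup.of_card (n := 1) (by
      rw [Nat.card_zpowers, pow_one]
      exact orderOf_eq_prime (Subtype.ext (by rw [SubmonoidClass.coe_pow, sq]; exact hA.sq c hcA))
        (fun h => hA.ne_one c hcA (congrArg Subtype.val h)))
    obtain ⟨S, hS⟩ := hza.exists_le_sylow
    obtain ⟨T, hT⟩ := hzc.exists_le_sylow
    obtain ⟨k, hk⟩ := MulAction.exists_smul_eq H T S
    have hkc : (k : G) * c * (k : G)⁻¹ ∈ (S : Subgroup H).map H.subtype := by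
      refine ⟨k * ⟨c, hcH⟩ * k⁻¹, ?_, rfl⟩
      rw [← hk]
      exact ⟨_, hT (mem_zpowers _), rfl⟩
    have hkα : ((k : G) * c * (k : G)⁻¹) • α = α := hcom _ (hA.conj c hcA _)
      (hA.cent _ (S.isPGroup'.map _) _ (hA.conj c hcA _) hkc a ⟨⟨a, haH⟩, hS (mem_zpowers _), rfl⟩)
    have hkβ : (k : G) • β = α := hA.one _ (hA.conj c hcA _) _ _
      (by rw [mul_smul, mul_smul, inv_smul_smul, hcβ]) hkα
    rcases eq_or_ne H ⊤ with htop | htop
    · -- `u` is central: pass to the quotient
      have huz : ∀ x : G, u * x = x * u := fun x =>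
        (mem_centralizer_singleton_iff.mp (show x ∈ H from htop ▸ mem_top x)).symm
      have huall : ∀ γ : Ω, u • γ = γ := fun γ => by
        obtain ⟨x, rfl⟩ := MulAction.exists_smul_eq G α γ
        rw [← mul_smul, huz, mul_smul, huα]
      haveI hNn : (zpowers u).Normal := ⟨fun x hx y => by
        obtain ⟨i, rfl⟩ := mem_zpowers_iff.mp hx
        rw [← ((show Commute u y from huz y).zpow_left i).eq, mul_inv_cancel_right]
        exact hx⟩
      set N := zpowers u with hN
      set π := QuotientGroup.mk' N with hπ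
      have hker : N ≤ (MulAction.toPermHom G Ω).ker := zpowers_le.mpr (Equiv.ext huall)
      letI act : MulAction (G ⧸ N) Ω := MulAction.compHom Ω (QuotientGroup.lift N (MulAction.toPermHom G Ω) hker)
      have hsmul : ∀ (x : G) (γ : Ω), π x • γ = x • γ := fun _ _ => rfl
      haveI : MulAction.IsPretransitive (G ⧸ N) Ω :=
        ⟨fun γ δ => (MulAction.exists_smul_eq G γ δ).elim fun x hx => ⟨π x, hx⟩⟩
      have hN2 : IsPGroup 2 N := IsPGroup.of_card (n := 1) (by
        rw [Nat.card_zpowers, pow_one]; exact orderOf_eq_prime (by rw [sq]; exact hu2) hu1)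
      have hmemN : ∀ x ∈ N, x = 1 ∨ x = u := by
        intro x hx
        obtain ⟨i, rfl⟩ := mem_zpowers_iff.mp hx
        rw [← zpow_mod_orderOf, show orderOf u = 2 from orderOf_eq_prime (by rw [sq]; exact hu2) hu1]
        rcases Int.emod_two_eq i with h | h <;> simp [h]
      have hpre : ∀ T : Subgroup (G ⧸ N), IsPGroup 2 T → IsPGroup 2 (T.comap π) := fun T hT =>
        hT.comap_of_ker_isPGroup π (by rw [hπ, QuotientGroup.ker_mk']; exact hN2)
      have hcard : Nat.card (G ⧸ N) ≤ n := by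
        have h1 := Subgroup.card_eq_card_quotient_mul_card_subgroup N
        have h2 : Nat.card N = 2 := by
          rw [hN, Nat.card_zpowers]; exact orderOf_eq_prime (by rw [sq]; exact hu2) hu1
        rw [h2] at h1
        have := Nat.card_pos (α := G ⧸ N)
        omega
      have hspots : Spots (G ⧸ N) Ω (π '' A) := by
        refine ⟨?_, ?_, ?_, ?_, ?_, ?_⟩
        · rintro _ ⟨x, hx, rfl⟩ y
          obtain ⟨y, rfl⟩ := QuotientGroup.mk'_surjective N y
          exact ⟨y * x * y⁻¹, hA.conj x hx y, by rw [map_mul, map_mul, map_inv]⟩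
        · rintro _ ⟨x, hx, rfl⟩ h
          rcases hmemN x ((QuotientGroup.eq_one_iff x).mp h) with h' | h'
          · exact hA.ne_one x hx h'
          · exact huA (h' ▸ hx)
        · rintro _ ⟨x, hx, rfl⟩
          rw [← map_mul, hA.sq x hx, map_one]
        · rintro _ ⟨x, hx, rfl⟩ γ δ hγ hδ
          exact hA.one x hx γ δ hγ hδ
        · rintro _ ⟨x, hx, rfl⟩ _ ⟨y, hy, rfl⟩ hxy hcm
          have hxy' : x * y = y * x := by
            rcases hmemN ((x * y) * (y * x)⁻¹) ((QuotientGroup.eq_one_iff _).mp (by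
              change π ((x * y) * (y * x)⁻¹) = 1
              rw [map_mul, map_mul, map_inv, map_mul, hcm, mul_inv_cancel])) with h | h
            · exact mul_inv_eq_one.mp h
            · have h2 : π x * π y * (π x * π y) = 1 := by
                conv_lhs => rw [mul_assoc, ← mul_assoc (π y), ← hcm, ← mul_assoc, ← mul_assoc]
                rw [← map_mul, hA.sq x hx, map_one, one_mul, ← map_mul, hA.sq y hy, map_one]
              have hp : IsPGroup 2 ↥(zpowers (π x) ⊔ zpowers (π y)) := by
                have hx' : IsPGroup 2 (zpowers (π x)) := by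
                  intro ⟨z, hz⟩
                  obtain ⟨i, rfl⟩ := mem_zpowers_iff.mp hz
                  exact ⟨1, Subtype.ext (by
                    show (π x ^ i) ^ 2 ^ 1 = 1
                    rw [pow_one, sq, ← (Commute.refl (π x)).mul_zpow, ← map_mul, hA.sq x hx, map_one, one_zpow])⟩
                have hy' : IsPGroup 2 (zpowers (π y)) := by
                  intro ⟨z, hz⟩
                  obtain ⟨i, rfl⟩ := mem_zpowers_iff.mp hz
                  exact ⟨1, Subtype.ext (by
                    show (π y ^ i) ^ 2 ^ 1 = 1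
                    rw [pow_one, sq, ← (Commute.refl (π y)).mul_zpow, ← map_mul, hA.sq y hy, map_one, one_zpow])⟩
                refine hx'.to_sup_of_normal_right' hy' ((le_centralizer_iff.mpr ?_).trans
                  (centralizer_le_normalizer _))
                refine zpowers_le.mpr (mem_centralizer_iff.mpr fun z hz => ?_)
                obtain ⟨i, rfl⟩ := mem_zpowers_iff.mp hz
                exact ((show Commute (π x) (π y) from hcm).zpow_left i).eq
              exact (hA.cent _ (hpre _ hp) y hy (mem_sup_right (mem_zpowers (π y))) x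
                (mem_sup_left (mem_zpowers (π x))))
          exact ⟨x * y, hA.prod x hx y hy (fun h => hxy (h ▸ rfl)) hxy', map_mul π x y⟩
        · rintro T hT _ ⟨x, hx, rfl⟩ hxT t ht
          obtain ⟨t, rfl⟩ := QuotientGroup.mk'_surjective N t
          rw [← map_mul, ← map_mul, hA.cent _ (hpre T hT) x hx hxT t ht]
      refine hne (ih (G ⧸ N) Ω (π '' A) hcard hspots (π a) ⟨a, ha, rfl⟩ (π b) ⟨b, hb, rfl⟩ ⟨α, hα⟩
        ⟨β₀, hβ₀⟩ ?_)
      intro q hq
      obtain ⟨x, rfl⟩ := QuotientGroup.mk'_surjective N q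
      rw [← map_inv, ← map_mul, ← map_mul] at hq
      rcases hmemN _ (QuotientGroup.eq.mp hq) with h | h
      · exact hnc x (inv_mul_eq_one.mp h)
      · set d := x * b * x⁻¹ with hd
        have hdA : d ∈ A := hA.conj b hb x
        have hdi : d⁻¹ = d := inv_eq_of_mul_eq_one_left (hA.sq d hdA)
        rw [hdi] at h
        have hda : d ≠ a := fun e => hu1 (by rw [← h, e, hA.sq a ha])
        have hae : a = d * u := by rw [← h, ← mul_assoc, hA.sq d hdA, one_mul]
        exact huA (h ▸ hA.prod d hdA a ha hda (by rw [hae, mul_assoc d u d, huz d]))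
    · -- induction on the centralizer
      let Δ := MulAction.orbit H α
      have hcardH : Nat.card H ≤ n := by
        have := Subgroup.card_le_card_group H
        rcases this.lt_or_eq with h | h
        · omega
        · exact absurd (eq_top_of_card_eq H h) htop
      have hspots : Spots H Δ {x : H | (x : G) ∈ A} := by
        refine ⟨fun x hx g => hA.conj _ hx _, fun x hx h => hA.ne_one _ hx (congrArg Subtype.val h),
          fun x hx => Subtype.ext (hA.sq _ hx), fun x hx γ δ hγ hδ => Subtype.ext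
            (hA.one _ hx _ _ (congrArg Subtype.val hγ) (congrArg Subtype.val hδ)),
          fun x hx y hy hxy hcm => hA.prod _ hx _ hy (fun h => hxy (Subtype.ext h)) (congrArg Subtype.val hcm),
          fun T hT x hx hxT t ht => Subtype.ext
            (hA.cent _ (hT.map H.subtype) _ hx (mem_map_of_mem _ hxT) _ (mem_map_of_mem _ ht))⟩
      have hmem : β ∈ Δ := ⟨k⁻¹, by show ((k : G)⁻¹) • α = β; rw [← hkβ, inv_smul_smul]⟩
      have hsub : Subsingleton Δ := ih H Δ {x : H | (x : G) ∈ A} hcardH hspots ⟨a, haH⟩ ha ⟨c, hcH⟩ hcA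
        ⟨⟨α, MulAction.mem_orbit_self α⟩, Subtype.ext hα⟩ ⟨⟨β, hmem⟩, Subtype.ext hcβ⟩
        fun x hx => hnc' (x : G) (congrArg Subtype.val hx)
      exact hβα (congrArg Subtype.val (@Subsingleton.elim _ hsub (⟨β, hmem⟩ : Δ) ⟨α, MulAction.mem_orbit_self α⟩))

end Cfsg.Agent.H52.FpfThree
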