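import Cfsg.Agent.H52.FpfThree.Solv
import Cfsg.Agent.S0205

/-!
The odd cores of centralizers of elements of a strongly closed central subgroup `A` of a Sylow 2-subgroup.
-/

set_option autoImplicit false
set_option linter.style.haveILetI false

namespace Cfsg.Agent.H52.FpfThree

open Subgroup Cfsg Cfsg.Agent
open scoped commutatorElement

universe u

variable {G : Type u} [Group G]

/-- the odd core of the centralizer of an element -/
def theta (a : G) : Subgroup G :=
  (Cfsg.pPrimeCore 2 (centralizer ({a} : Set G))).map (centralizer ({a} : Set G)).subtype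

theorem theta_le (a : G) : theta a ≤ centralizer ({a} : Set G) := map_subtype_le _

variable [Finite G]

theorem odd_theta (a : G) : Odd (Nat.card (theta a)) := by
  haveI : Fact (Nat.Prime 2) := ⟨Nat.prime_two⟩
  rw [theta, card_map_of_injective (Subgroup.subtype_injective _)]
  exact Nat.coprime_two_right.mp (Cores.coprime_card_pPrimeCore (p := 2) (G := centralizer ({a} : Set G)))

/-- the cores move with automorphisms -/
theorem map_theta (φ : MulAut G) (a : G) : (theta a).map (φ : G ≃* G).toMonoidHom = theta (φ a) := by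
  haveI : Fact (Nat.Prime 2) := ⟨Nat.prime_two⟩
  set C := centralizer ({a} : Set G)
  set C' := centralizer ({φ a} : Set G)
  have hC : C.map (φ : G ≃* G).toMonoidHom = C' := by
    ext y
    obtain ⟨x, rfl⟩ := φ.surjective y
    refine (mem_map_iff_mem (f := (φ : G ≃* G).toMonoidHom) φ.injective).trans ?_
    rw [mem_centralizer_singleton_iff, mem_centralizer_singleton_iff, ← map_mul, ← map_mul, φ.injective.eq_iff]
  let e : C ≃* C' := ((φ : G ≃* G).subgroupMap C).trans (MulEquiv.subgroupCongr hC)
  rw [theta, theta, ← Cores.pPrimeCore_map_mulEquiv (p := 2) e, Subgroup.map_map, Subgroup.map_map]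
  rfl

variable (S : Sylow 2 G) {A : Subgroup G} (hAS : A ≤ (S : Subgroup G))
  (hAc : ∀ x ∈ A, ∀ s ∈ (S : Subgroup G), s * x = x * s)

include hAS hAc

omit [Finite G] in
theorem sylow_le_centralizer {a : G} (ha : a ∈ A) : (S : Subgroup G) ≤ centralizer ({a} : Set G) :=
  fun s hs => mem_centralizer_singleton_iff.mpr (hAc a ha s hs)

/-- balance -/
theorem theta_balance {a b : G} (ha : a ∈ A) (hb : b ∈ A)
    (hsol : Group.IsSolvable (centralizer ({b} : Set G))) :
    theta a ⊓ centralizer ({b} : Set G) ≤ theta b := by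
  set C := centralizer ({b} : Set G)
  haveI : Group.IsSolvable C := hsol
  have hle := sylow_le_centralizer S hAS hAc hb
  set X : Subgroup C := (theta a).subgroupOf C with hX
  have hodd : Odd (Nat.card X) :=
    (odd_theta a).of_dvd_nat (Subgroup.card_comap_dvd_of_injective _ C.subtype C.subtype_injective)
  have h := le_core_of_normalized (S.subtype hle) hodd (fun s hs x hx => by
    rw [Sylow.coe_subtype, mem_subgroupOf] at hs
    show (s : G) * x * (s : G)⁻¹ ∈ theta a
    obtain ⟨y, hy, hye⟩ := mem_subgroupOf.mp hx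
    have hsa : (s : G) ∈ centralizer ({a} : Set G) := sylow_le_centralizer S hAS hAc ha hs
    exact ⟨⟨s, hsa⟩ * y * ⟨s, hsa⟩⁻¹, (Cfsg.pPrimeCore_normal 2 _).conj_mem y hy _, by simp [← hye]⟩)
  intro x hx
  exact ⟨⟨x, hx.2⟩, h (show (⟨x, hx.2⟩ : C) ∈ X from hx.1), rfl⟩

variable (hclosed : ∀ x ∈ A, ∀ g : G, g * x * g⁻¹ ∈ (S : Subgroup G) → g * x * g⁻¹ ∈ A)

include hclosed

/-- the centralizer is the product of its odd core and the normalizer of `A` -/
theorem exists_core_mul_normalizer {a : G} (ha : a ∈ A) (hsol : Group.IsSolvable (centralizer ({a} : Set G)))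
    {g : G} (hg : g ∈ centralizer ({a} : Set G)) :
    ∃ o ∈ theta a, ∃ n ∈ normalizer (A : Set G), g = o * n := by
  haveI : Fact (Nat.Prime 2) := ⟨Nat.prime_two⟩
  set C := centralizer ({a} : Set G) with hC
  haveI : Group.IsSolvable C := hsol
  have hle := sylow_le_centralizer S hAS hAc ha
  set S' := S.subtype hle with hS'
  set O := Cfsg.pPrimeCore 2 C with hO
  haveI : O.Normal := Cfsg.pPrimeCore_normal 2 _
  set A' := A.subgroupOf C with hA'
  set M := A' ⊔ O with hM
  haveI hMn : M.Normal := by
    refine ⟨fun y hy k => ?_⟩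
    rw [hM, mem_sup_of_normal_right] at hy
    obtain ⟨x, hx, o, ho, rfl⟩ := hy
    have hxS : x ∈ (S' : Subgroup C) := by rw [hS', Sylow.coe_subtype]; exact hAS hx
    obtain ⟨w, hw, hwS⟩ := exists_core_conj S' hxS (fun s hs => Subtype.ext (by
      rw [hS', Sylow.coe_subtype] at hs; exact hAc _ hx _ hs)) k
    have hwA : w * (k * x * k⁻¹) * w⁻¹ ∈ A' := by
      rw [hS', Sylow.coe_subtype] at hwS
      have := hclosed _ hx ((w * k : C) : G) (by simpa [mul_assoc, mem_subgroupOf] using hwS)
      simpa [hA', mul_assoc, mem_subgroupOf] using this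
    rw [show k * (x * o) * k⁻¹ = w⁻¹ * (w * (k * x * k⁻¹) * w⁻¹) * w * (k * o * k⁻¹) by group]
    exact mul_mem (mul_mem (mul_mem (mem_sup_right (inv_mem hw)) (mem_sup_left hwA)) (mem_sup_right hw))
      (mem_sup_right ((inferInstance : O.Normal).conj_mem o ho k))
  have hAp : IsPGroup 2 A' := (S.isPGroup'.to_le hAS).comap_of_injective _ C.subtype_injective
  have hidx : ¬ 2 ∣ (A'.subgroupOf M).index := by
    intro hdvd
    have h1 : Nat.card A' * A'.relIndex M = Nat.card M := by
      rw [← relIndex_bot_left A', relIndex_mul_relIndex ⊥ A' M bot_le le_sup_left, relIndex_bot_left]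
    have h2 : A'.relIndex M ∣ Nat.card O := by
      have := Cores.card_sup_dvd A' O
      rw [← hM, ← h1] at this
      exact (Nat.mul_dvd_mul_iff_left Nat.card_pos).mp this
    exact absurd (Nat.eq_one_of_dvd_coprimes (Cores.coprime_card_pPrimeCore (p := 2) (G := C))
      (hdvd.trans h2) dvd_rfl) (by decide)
  set P : Sylow 2 M := (hAp.comap_subtype (K := M)).toSylow hidx
  have hfr := P.normalizer_sup_eq_top (N := M)
  have hmem : (⟨g, hg⟩ : C) ∈ M ⊔ normalizer (A' : Set C) := by
    rw [show (P : Subgroup M) = A'.subgroupOf M from rfl] at hfr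
    rw [subgroupOf_map_subtype, inf_eq_left.mpr (le_sup_left : A' ≤ M), sup_comm] at hfr
    rw [hfr]
    exact mem_top _
  rw [mem_sup_of_normal_left] at hmem
  obtain ⟨m, hm, n, hn, hmn⟩ := hmem
  rw [hM, sup_comm, mem_sup_of_normal_left] at hm
  obtain ⟨o, ho, x, hx, rfl⟩ := hm
  have hxn : x * n ∈ normalizer (A' : Set C) := mul_mem (le_normalizer hx) hn
  refine ⟨o, ⟨o, ho, rfl⟩, ((x * n : C) : G), ?_, ?_⟩
  · have h2 := le_normalizer_map C.subtype ⟨x * n, hxn, rfl⟩
    rw [hA', subgroupOf_map_subtype, inf_eq_left.mpr (hAS.trans hle)] at h2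
    exact h2
  · rw [← Subgroup.coe_mul, ← mul_assoc, hmn]

end Cfsg.Agent.H52.FpfThree
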