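import Cfsg.Agent.H52.FpfThree.Closed
import Cfsg.Agent.H52.FpfThree.Signal
import Cfsg.Agent.H52.FpfThree.Points
import Cfsg.Agent.S0215
import Cfsg.Agent.S0217

/-!
A group of order prime to three with such an automorphism is solvable.
-/

set_option autoImplicit false
set_option linter.style.haveILetI false

namespace Cfsg.Agent.H52.FpfThree

open Subgroup Cfsg Cfsg.Agent

universe u

variable {G : Type u} [Group G] [Finite G] {σ : MulAut G}

/-- the restriction of an automorphism conjugation formula -/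
theorem Hyp.fixed_normalizer (h : Hyp σ) (S : Sylow 2 G) {A : Subgroup G} (hAi : Inv σ A)
    (hAS : A ≤ (S : Subgroup G)) (hAc : ∀ x ∈ A, ∀ s ∈ (S : Subgroup G), s * x = x * s)
    (hsol : Group.IsSolvable (normalizer (A : Set G))) :
    ∀ n ∈ normalizer (A : Set G), ∃ d, σ d = d ∧ d ∈ normalizer (A : Set G) ∧
      ∀ x ∈ A, n * x * n⁻¹ = d * x * d⁻¹ := by
  haveI : Fact (Nat.Prime 2) := ⟨Nat.prime_two⟩
  set N := normalizer (A : Set G) with hN
  haveI : Group.IsSolvable N := hsol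
  have hSN : (S : Subgroup G) ≤ N := fun s hs => centralizer_le_normalizer _
    (mem_centralizer_iff.mpr fun x hx => (hAc x hx s hs).symm)
  obtain ⟨-, hdec⟩ := split (h.res hAi.normalizer)
  haveI : (A.subgroupOf N).Normal := normal_subgroupOf_of_le_normalizer le_rfl
  intro n hn
  obtain ⟨p, hp, d, hd, hpd⟩ := hdec ⟨n, hn⟩
  refine ⟨d, congrArg Subtype.val hd, d.2, fun x hx => ?_⟩
  set y := (d : G) * x * (d : G)⁻¹ with hy
  have hyA : y ∈ A := (mem_normalizer_iff.mp d.2 x).mp hx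
  have hc : (p : G) * y = y * p := congrArg Subtype.val (pPrimePCore_commute (S.subtype hSN)
    (A := A.subgroupOf N) (fun z hz => by rw [Sylow.coe_subtype]; exact hAS hz)
    (fun z hz s hs => Subtype.ext (by rw [Sylow.coe_subtype] at hs; exact hAc _ hz _ hs)) hp
    (x := ⟨y, hSN (hAS hyA)⟩) hyA)
  have he : n = (p : G) * d := congrArg Subtype.val hpd
  calc n * x * n⁻¹ = (p : G) * y * (p : G)⁻¹ := by rw [he, hy]; group
    _ = y := by rw [hc, mul_inv_cancel_right]

/-- no element is conjugate to its image -/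
theorem Hyp.ne_image (h : Hyp σ) {A : Subgroup G} (hA : IsPGroup 2 A) {a d : G} (ha : a ∈ A) (ha1 : a ≠ 1)
    (hd : σ d = d) (he : d * a * d⁻¹ = σ a) : False := by
  have h1 : d * σ a * d⁻¹ = σ (σ a) := by
    rw [← he, map_mul, map_mul, map_inv, hd, he]
  have h2 : d * σ (σ a) * d⁻¹ = a := by
    have h' := congrArg σ h1
    rwa [map_mul, map_mul, map_inv, hd, h.apply_three] at h'
  have h3 : Commute (d ^ 3) a := by
    show d ^ 3 * a = a * d ^ 3
    rw [← mul_inv_eq_iff_eq_mul]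
    calc d ^ 3 * a * (d ^ 3)⁻¹ = d * (d * (d * a * d⁻¹) * d⁻¹) * d⁻¹ := by simp only [pow_succ, pow_zero, one_mul]; group
      _ = a := by rw [he, h1]; exact h2
  obtain ⟨k, hk⟩ := exists_pow_eq_self_of_coprime
    ((Nat.prime_three.coprime_iff_not_dvd.mpr fun hd3 => h.three (hd3.trans (orderOf_dvd_natCard d))))
  have h4 : Commute d a := hk ▸ h3.pow_left k
  rw [h4.eq, mul_inv_cancel_right] at he
  exact ha1 (h.eq_one hA ha he.symm)

set_option maxHeartbeats 1000000 in
theorem no_minimal (h : Hyp σ) (hnorm : ∀ N : Subgroup G, N.Normal → Inv σ N → N = ⊥ ∨ N = ⊤)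
    (hmin : ∀ H : Subgroup G, Inv σ H → H ≠ ⊤ → Group.IsSolvable H) (hns : ¬ Group.IsSolvable G) : False := by
  classical
  haveI : Fact (Nat.Prime 2) := ⟨Nat.prime_two⟩
  have hnotodd : ¬ Odd (Nat.card G) := fun ho => hns (Cfsg.Agent.S0205.result ho)
  -- normalizers of solvable invariant subgroups are proper
  have hproper : ∀ L : Subgroup G, Inv σ L → Group.IsSolvable L → L ≠ ⊥ → normalizer (L : Set G) ≠ ⊤ := by
    intro L hLi hLs hL hNt
    haveI : L.Normal := normalizer_eq_top_iff.mp hNt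
    rcases hnorm L ‹_› hLi with h' | h'
    · exact hL h'
    · subst h'
      exact hns (Group.isSolvable_of_surjective (f := (Subgroup.topEquiv : (⊤ : Subgroup G) ≃* G).toMonoidHom)
        Subgroup.topEquiv.surjective)
  have hcore : ∀ N : Subgroup G, N.Normal → Odd (Nat.card N) → Inv σ N → N = ⊥ := by
    intro N hN ho hi
    rcases hnorm N hN hi with h' | h'
    · exact h'
    · subst h'; rw [card_top] at ho; exact absurd ho hnotodd
  have hcen : center G = ⊥ := by
    rcases hnorm (center G) inferInstance (inv_center σ) with h' | h'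
    · exact h'
    · exact absurd (Group.isSolvable_of_comm fun x y : G => (mem_center_iff.mp (h' ▸ mem_top x) y).symm) hns
  obtain ⟨S, hS⟩ := h.exists_sylow 2
  have hS1 : (S : Subgroup G) ≠ ⊥ := by
    intro hb
    refine hnotodd (Nat.not_even_iff_odd.mp fun he => S.not_dvd_index ?_)
    rw [hb, index_bot]
    exact even_iff_two_dvd.mp he
  set J := Thompson.jay 2 (S : Subgroup G) with hJ
  have hZne := zee_ne_bot S.isPGroup' hS1
  have hJ1 : J ≠ ⊥ := fun hb => hZne (le_bot_iff.mp (hb ▸ zee_le_jay (S : Subgroup G)))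
  have hJi : Inv σ J := inv_of_map (by rw [hJ, ← Thompson.jay_map _ σ.injective, hS.map_eq])
  have hJs : Group.IsSolvable J := by
    haveI := (S.isPGroup'.to_le Thompson.jay_le : IsPGroup 2 J).isNilpotent
    infer_instance
  obtain ⟨hclosed, hfus⟩ := closed_zee h S hS (hmin _ hJi.normalizer (hproper J hJi hJs hJ1))
  set A := zee (S : Subgroup G) with hA
  have hAS : A ≤ (S : Subgroup G) := (zee_le _).trans inf_le_left
  have hAc : ∀ x ∈ A, ∀ s ∈ (S : Subgroup G), s * x = x * s := fun x hx s hs => zee_comm hx hs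
  have hAi : Inv σ A := inv_zee hS
  have hAp : IsPGroup 2 A := S.isPGroup'.to_le hAS
  have hAsq : ∀ x ∈ A, x * x = 1 := fun x hx => zee_sq hx
  have hAs : Group.IsSolvable A := by
    haveI := hAp.isNilpotent
    infer_instance
  set NA := normalizer (A : Set G) with hNA
  have hNAsol : Group.IsSolvable NA := hmin _ hAi.normalizer (hproper A hAi hAs hZne)
  have hfix := h.fixed_normalizer S hAi hAS hAc hNAsol
  have hord : ∀ x ∈ A, x ≠ 1 → orderOf x = 2 := fun x hx hx1 =>
    orderOf_eq_prime (by rw [sq]; exact hAsq x hx) hx1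
  -- two elements are not conjugate
  have hnc : ∀ a ∈ A, a ≠ 1 → ∀ g : G, g * a * g⁻¹ ≠ σ a := by
    intro a ha ha1 g hg
    obtain ⟨n, hn, hne⟩ := hfus {a} (Set.singleton_subset_iff.mpr (hAS ha)) g (by
      rintro _ ⟨x, rfl, rfl⟩
      show g * x * g⁻¹ ∈ (S : Subgroup G)
      rw [hg]
      exact hAS (hAi _ ha))
    obtain ⟨d, hd, -, hde⟩ := hfix n hn
    exact h.ne_image hAp ha ha1 hd (by rw [← hde a ha, ← hne a rfl, hg])
  -- the rank of `A`
  have hrank : 2 ^ 3 ≤ Nat.card A := by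
    by_contra hlt
    obtain ⟨a, ha, ha1⟩ := (A.ne_bot_iff_exists_ne_one).mp hZne |> fun ⟨⟨a, ha⟩, h1⟩ =>
      (⟨a, ha, fun e => h1 (Subtype.ext e)⟩ : ∃ a ∈ A, a ≠ 1)
    have hb1 : σ a ≠ 1 := fun e => ha1 (σ.injective (by rw [e, map_one]))
    have hc1 : σ (σ a) ≠ 1 := fun e => hb1 (σ.injective (by rw [e, map_one]))
    have hab : σ a ≠ a := fun e => ha1 (h.eq_one hAp ha e)
    have hbc : σ (σ a) ≠ σ a := fun e => hab (σ.injective e)
    have hac : σ (σ a) ≠ a := fun e => hab ((congrArg σ e).symm.trans (h.apply_three a))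
    set t : Finset G := {1, a, σ a, σ (σ a)} with ht
    have htc : t.card = 4 := by
      rw [ht, Finset.card_insert_of_notMem (by simp [ha1.symm, hb1.symm, hc1.symm]),
        Finset.card_insert_of_notMem (by simp [hab.symm, hac.symm]),
        Finset.card_insert_of_notMem (by simp [hbc.symm]), Finset.card_singleton]
    have hts : (t : Set G) ⊆ (A : Set G) := by
      intro x hx
      simp only [ht, Finset.coe_insert, Finset.coe_singleton, Set.mem_insert_iff, Set.mem_singleton_iff] at hx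
      rcases hx with rfl | rfl | rfl | rfl
      exacts [one_mem A, ha, hAi _ ha, hAi _ (hAi _ ha)]
    obtain ⟨k, hk⟩ := IsPGroup.iff_card.mp hAp
    have h4 : 4 ≤ Nat.card A := by
      rw [← htc, ← Set.ncard_coe_finset]
      exact (Set.ncard_le_ncard hts).trans_eq (Nat.card_coe_set_eq (A : Set G)).symm
    have hk2 : k = 2 := by
      have h5 : 2 ≤ k := (Nat.pow_le_pow_iff_right (by norm_num : 1 < 2)).mp (hk ▸ h4)
      have h6 : k < 3 := (Nat.pow_lt_pow_iff_right (by norm_num : 1 < 2)).mp (hk ▸ not_le.mp hlt)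
      omega
    have heq : (A : Set G) = (t : Set G) := (Set.eq_of_subset_of_ncard_le hts (by
      rw [Set.ncard_coe_finset, htc, ← Nat.card_coe_set_eq]
      exact (hk.trans (by rw [hk2]; norm_num)).le)).symm
    obtain ⟨N, hN, hNo, hcomm⟩ := Cfsg.Agent.S0215.result S a (hord a ha ha1) (hAS ha) (by
      intro g hg
      have hy : g * a * g⁻¹ ∈ (t : Set G) := heq ▸ hclosed a ha g hg
      simp only [ht, Finset.coe_insert, Finset.coe_singleton, Set.mem_insert_iff, Set.mem_singleton_iff] at hy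
      rcases hy with hy | hy | hy | hy
      · exact absurd (conj_eq_one_iff.mp hy) ha1
      · exact hy
      · exact absurd hy (hnc a ha ha1 g)
      · exfalso
        refine hnc (σ (σ a)) (hAi _ (hAi _ ha)) hc1 g⁻¹ ?_
        rw [h.apply_three, ← hy]
        group)
    have hbot : Cfsg.pPrimeCore 2 G = ⊥ := hcore _ (Cfsg.pPrimeCore_normal 2 G) (Cores.odd_card_oddCore (G := G))
      (inv_pPrimeCore σ 2)
    haveI := hN
    have hNbot : N = ⊥ := le_bot_iff.mp (hbot ▸ Cores.le_oddCore hNo)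
    refine ha1 (mem_bot.mp (hcen ▸ mem_center_iff.mpr fun g => ?_))
    have := hcomm g
    rw [hNbot, mem_bot] at this
    exact (mul_inv_eq_iff_eq_mul.mp (mul_inv_eq_one.mp this)).symm
  -- centralizers are solvable
  have hCsol : ∀ a ∈ A, a ≠ 1 → Group.IsSolvable (centralizer ({a} : Set G)) := by
    intro a ha ha1
    set C := centralizer ({a} : Set G) with hC
    have hle : (S : Subgroup G) ≤ C := sylow_le_centralizer S hAS hAc ha
    let B : Subgroup G :=
      { carrier := {b | b ∈ A ∧ ∀ d ∈ NA, σ d = d → d * a * d⁻¹ = a → d * b * d⁻¹ = b}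
        one_mem' := ⟨one_mem A, fun d _ _ _ => by simp⟩
        mul_mem' := fun {b c} hb hc => ⟨mul_mem hb.1 hc.1, fun d h1 h2 h3 => by
          rw [show d * (b * c) * d⁻¹ = (d * b * d⁻¹) * (d * c * d⁻¹) by group, hb.2 d h1 h2 h3, hc.2 d h1 h2 h3]⟩
        inv_mem' := fun {b} hb => ⟨inv_mem hb.1, fun d h1 h2 h3 => by rw [← conj_inv, hb.2 d h1 h2 h3]⟩ }
    have hBi : Inv σ B := fun b hb => ⟨hAi b hb.1, fun d h1 h2 h3 => by
      rw [show d * σ b * d⁻¹ = σ (d * b * d⁻¹) by rw [map_mul, map_mul, map_inv, h2], hb.2 d h1 h2 h3]⟩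
    have haB : a ∈ B := ⟨ha, fun d _ _ h3 => h3⟩
    have hCB : Group.IsSolvable (centralizer (B : Set G)) := hmin _ hBi.centralizer fun ht =>
      ha1 (mem_bot.mp (hcen ▸ mem_center_iff.mpr fun g =>
        (mem_centralizer_iff.mp (ht ▸ mem_top g : g ∈ centralizer (B : Set G)) a haB).symm))
    set O := Cfsg.pPrimeCore 2 C with hO
    haveI : O.Normal := Cfsg.pPrimeCore_normal 2 C
    set π := QuotientGroup.mk' O with hπ
    set B' := B.subgroupOf C with hB'
    have hBp : IsPGroup 2 B' := (hAp.to_le (show B ≤ A from fun b hb => hb.1)).comap_of_injective _ C.subtype_injective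
    have htriv : centralizer ((B'.map π : Subgroup (C ⧸ O)) : Set (C ⧸ O)) = ⊤ := by
      rw [eq_top_iff]
      intro q _
      obtain ⟨g, rfl⟩ := QuotientGroup.mk'_surjective O q
      rw [mem_centralizer_iff]
      rintro _ ⟨b, hb, rfl⟩
      rcases eq_or_ne b 1 with rfl | hb1
      · simp
      obtain ⟨N, hN, hNo, hcomm⟩ := Cfsg.Agent.S0215.result (S.subtype hle) b
        (by rw [← Subgroup.orderOf_coe]; exact hord _ hb.1 (fun e => hb1 (Subtype.ext e)))
        (show b ∈ ((S.subtype hle : Sylow 2 C) : Subgroup C) by rw [Sylow.coe_subtype]; exact hAS hb.1) (by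
          intro k hk
          replace hk : k * b * k⁻¹ ∈ ((S.subtype hle : Sylow 2 C) : Subgroup C) := hk
          rw [Sylow.coe_subtype] at hk
          have hka : (k : G) * a * (k : G)⁻¹ = a := by
            rw [mem_centralizer_singleton_iff.mp k.2, mul_inv_cancel_right]
          obtain ⟨n, hn, hne⟩ := hfus {a, (b : G)} (Set.insert_subset (hAS ha) (Set.singleton_subset_iff.mpr (hAS hb.1)))
            k (by
              rintro _ ⟨x, hx, rfl⟩
              rcases hx with hx | hx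
              · subst hx; show (k : G) * x * (k : G)⁻¹ ∈ (S : Subgroup G); rw [hka]; exact hAS ha
              · rw [Set.mem_singleton_iff.mp hx]; exact hk)
          obtain ⟨d, hd, hdN, hde⟩ := hfix n hn
          have h1 : d * a * d⁻¹ = a := by rw [← hde a ha, ← hne a (Set.mem_insert _ _), hka]
          have h2 : d * (b : G) * d⁻¹ = b := hb.2 d hdN hd h1
          exact Subtype.ext (by
            show (k : G) * b * (k : G)⁻¹ = b
            rw [hne _ (Set.mem_insert_of_mem _ rfl)]; exact (hde _ hb.1).trans h2))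
      haveI := hN
      have h1 : π (b * g * b⁻¹ * g⁻¹) = 1 := (QuotientGroup.eq_one_iff _).mpr (Cores.le_oddCore hNo (hcomm g))
      simp only [map_mul, map_inv] at h1
      exact mul_inv_eq_iff_eq_mul.mp (mul_inv_eq_one.mp h1)
    have hlift := Cores.map_centralizer_of_coprime (p := 2) O (Cores.coprime_card_pPrimeCore (p := 2) (G := C)) hBp
    rw [htriv] at hlift
    have hcs : Group.IsSolvable (centralizer (B' : Set C)) := by
      haveI := hCB
      let f : centralizer (B' : Set C) →* centralizer (B : Set G) :=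
        (C.subtype.comp (centralizer (B' : Set C)).subtype).codRestrict _ fun x => mem_centralizer_iff.mpr
          fun b hb => congrArg Subtype.val (mem_centralizer_iff.mp x.2 ⟨b, hle (hAS hb.1)⟩ hb)
      exact Group.isSolvable_of_isSolvable_injective (f := f) fun x y hxy =>
        Subtype.ext (Subtype.ext (congrArg (fun z : centralizer (B : Set G) => (z : G)) hxy))
    have hQ : Group.IsSolvable (C ⧸ O) := by
      have h' := Coprime.isSolvable_map π hcs
      rw [hlift] at h'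
      exact Group.isSolvable_of_surjective (f := (Subgroup.topEquiv : (⊤ : Subgroup (C ⧸ O)) ≃* C ⧸ O).toMonoidHom)
        Subgroup.topEquiv.surjective
    haveI : Group.IsSolvable O := Cfsg.Agent.S0205.result (Cores.odd_card_oddCore (G := C))
    exact Group.isSolvable_of_ker_le_range O.subtype π (by simp [hπ])
  -- the signalizer functor
  have hnorm' : ∀ a ∈ A, a ≠ 1 → ∀ b ∈ A, ∀ x ∈ theta a, b * x * b⁻¹ ∈ theta a := by
    intro a ha _ b hb x hx
    obtain ⟨y, hy, rfl⟩ := hx
    exact ⟨⟨b, sylow_le_centralizer S hAS hAc ha (hAS hb)⟩ * y *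
      ⟨b, sylow_le_centralizer S hAS hAc ha (hAS hb)⟩⁻¹, (Cfsg.pPrimeCore_normal 2 _).conj_mem y hy _, rfl⟩
  obtain ⟨hW2, -⟩ := Cfsg.Agent.S0217.result (p := 2) A (fun x hx y hy => hAc y hy x (hAS hx))
    (fun x hx => by rw [sq]; exact hAsq x hx) hrank theta (fun a _ _ => theta_le a)
    (fun a _ _ => by rw [← even_iff_two_dvd, Nat.not_even_iff_odd]; exact odd_theta a) hnorm'
    (fun a _ _ => Cfsg.Agent.S0205.result (odd_theta a))
    (fun a ha _ b hb hb1 => theta_balance S hAS hAc ha hb (hCsol b hb hb1))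
  set W := ⨆ a : {a : G // a ∈ A ∧ a ≠ 1}, theta (a : G) with hW
  have hWodd : Odd (Nat.card W) := by rwa [← Nat.not_even_iff_odd, even_iff_two_dvd]
  have hWmap : ∀ φ : MulAut G, (∀ x ∈ A, φ x ∈ A) → ∀ y ∈ W, φ y ∈ W := by
    intro φ hφ y hy
    refine (iSup_le (a := W.comap (φ : G ≃* G).toMonoidHom) fun i z hz => ?_) hy
    show φ z ∈ W
    have h1 : φ z ∈ theta (φ i.1) := map_theta φ i.1 ▸ mem_map_of_mem (φ : G ≃* G).toMonoidHom hz
    exact mem_iSup_of_mem (⟨φ i.1, hφ _ i.2.1, fun e => i.2.2 (φ.injective (by rw [e, map_one]))⟩ :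
      {a : G // a ∈ A ∧ a ≠ 1}) h1
  have hWi : Inv σ W := hWmap σ hAi
  have hNW : NA ≤ normalizer (W : Set G) := fun n hn => Coprime.mem_normalizer_of_map_conj
    (eq_of_le_of_card_ge (by
      rintro _ ⟨y, hy, rfl⟩
      exact hWmap (MulAut.conj n) (fun x hx => (mem_normalizer_iff.mp hn x).mp hx) y hy)
      (card_map_of_injective (MulAut.conj n).injective).ge)
  set M := W ⊔ NA with hM
  have hMtop : M ≠ ⊤ := by
    intro ht
    have hWn : W.Normal := normalizer_eq_top_iff.mp (eq_top_iff.mpr (ht ▸ sup_le le_normalizer hNW))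
    have hW0 := hcore W hWn hWodd hWi
    rw [hM, hW0, bot_sup_eq] at ht
    exact hproper A hAi hAs hZne ht
  have hCM : ∀ a ∈ A, a ≠ 1 → centralizer ({a} : Set G) ≤ M := by
    intro a ha ha1 g hg
    obtain ⟨o, ho, n, hn, rfl⟩ := exists_core_mul_normalizer S hAS hAc hclosed ha (hCsol a ha ha1) hg
    exact mul_mem (mem_sup_left (mem_iSup_of_mem (⟨a, ha, ha1⟩ : {a : G // a ∈ A ∧ a ≠ 1}) ho)) (mem_sup_right hn)
  have hSM : (S : Subgroup G) ≤ M := fun s hs => mem_sup_right (centralizer_le_normalizer _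
    (mem_centralizer_iff.mpr fun x hx => (hAc x hx s hs).symm))
  -- each element fixes one coset
  have hone : ∀ a ∈ A, a ≠ 1 → ∀ g : G, g⁻¹ * a * g ∈ M → g ∈ M := by
    intro a ha ha1 g hg
    have hyp : IsPGroup 2 (zpowers (⟨g⁻¹ * a * g, hg⟩ : M)) := IsPGroup.of_card (n := 1) (by
      rw [Nat.card_zpowers, pow_one, ← Subgroup.orderOf_coe]
      show orderOf (g⁻¹ * a * g) = 2
      have := orderOf_injective (MulAut.conj g⁻¹).toMonoidHom (MulAut.conj g⁻¹).injective a
      simpa [hord a ha ha1] using this)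
    obtain ⟨T, hT⟩ := hyp.exists_le_sylow
    obtain ⟨m, hm⟩ := MulAction.exists_smul_eq M T (S.subtype hSM)
    have h2 : m * ⟨g⁻¹ * a * g, hg⟩ * m⁻¹ ∈ ((S.subtype hSM : Sylow 2 M) : Subgroup M) := by
      rw [← hm]
      exact ⟨_, hT (mem_zpowers _), rfl⟩
    rw [Sylow.coe_subtype, mem_subgroupOf] at h2
    set k := (m : G) * g⁻¹ with hk
    have hka : k * a * k⁻¹ ∈ (S : Subgroup G) := by
      have e : k * a * k⁻¹ = (m : G) * (g⁻¹ * a * g) * (m : G)⁻¹ := by rw [hk]; group
      rw [e]; exact h2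
    obtain ⟨n, hn, hne⟩ := hfus {a} (Set.singleton_subset_iff.mpr (hAS ha)) k (by
      rintro _ ⟨x, rfl, rfl⟩; exact hka)
    have hnk : n⁻¹ * k ∈ centralizer ({a} : Set G) := by
      refine mem_centralizer_singleton_iff.mpr ?_
      calc n⁻¹ * k * a = n⁻¹ * (k * a * k⁻¹) * k := by group
        _ = n⁻¹ * (n * a * n⁻¹) * k := by rw [hne a rfl]
        _ = a * (n⁻¹ * k) := by group
    have hkM : k ∈ M := by
      have := mul_mem (mem_sup_right hn : n ∈ M) (hCM a ha ha1 hnk)
      simpa using this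
    have := mul_mem (inv_mem hkM) m.2
    simpa [hk] using this
  -- the point lemma
  obtain ⟨a, ha, ha1⟩ : ∃ a ∈ A, a ≠ 1 := by
    obtain ⟨⟨a, ha⟩, h1⟩ := (A.ne_bot_iff_exists_ne_one).mp hZne
    exact ⟨a, ha, fun e => h1 (Subtype.ext e)⟩
  have hinto : ∀ x ∈ A, ∀ (T : Sylow 2 G) (g : G), g * x * g⁻¹ ∈ (T : Subgroup G) →
      ∀ t ∈ (T : Subgroup G), t * (g * x * g⁻¹) = g * x * g⁻¹ * t := by
    intro x hx T g hg t ht
    obtain ⟨c, hc⟩ := MulAction.exists_smul_eq G S T
    rw [← hc] at hg ht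
    obtain ⟨w, hw, hwe⟩ := hg
    obtain ⟨s, hs, rfl⟩ := ht
    have hw' : (c⁻¹ * g) * x * (c⁻¹ * g)⁻¹ = w := by
      have e : c * w * c⁻¹ = g * x * g⁻¹ := hwe
      calc (c⁻¹ * g) * x * (c⁻¹ * g)⁻¹ = c⁻¹ * (g * x * g⁻¹) * c := by group
        _ = w := by rw [← e]; group
    have hwA : w ∈ A := hw' ▸ hclosed x hx (c⁻¹ * g) (hw'.symm ▸ hw)
    show c * s * c⁻¹ * (g * x * g⁻¹) = g * x * g⁻¹ * (c * s * c⁻¹)
    rw [← hwe]
    show c * s * c⁻¹ * (c * w * c⁻¹) = c * w * c⁻¹ * (c * s * c⁻¹)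
    rw [show c * s * c⁻¹ * (c * w * c⁻¹) = c * (s * w) * c⁻¹ by group, hAc w hwA s hs]
    group
  have hsmul : ∀ (x g : G), x • (g : G ⧸ M) = (g : G ⧸ M) ↔ g⁻¹ * x * g ∈ M := fun x g => by
    rw [MulAction.Quotient.smul_coe, eq_comm, QuotientGroup.eq, smul_eq_mul, mul_assoc]
  have hspots : Spots G (G ⧸ M) {y | ∃ x ∈ A, x ≠ 1 ∧ ∃ g : G, g * x * g⁻¹ = y} := by
    refine ⟨?_, ?_, ?_, ?_, ?_, ?_⟩
    · rintro _ ⟨x, hx, hx1, g, rfl⟩ k
      exact ⟨x, hx, hx1, k * g, by group⟩
    · rintro _ ⟨x, hx, hx1, g, rfl⟩ he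
      exact hx1 (conj_eq_one_iff.mp he)
    · rintro _ ⟨x, hx, hx1, g, rfl⟩
      rw [show g * x * g⁻¹ * (g * x * g⁻¹) = g * (x * x) * g⁻¹ by group, hAsq x hx, mul_one, mul_inv_cancel]
    · rintro _ ⟨x, hx, hx1, g, rfl⟩ α β hα hβ
      have key : ∀ γ : G ⧸ M, (g * x * g⁻¹) • γ = γ → γ = (g : G ⧸ M) := fun γ hγ => by
        obtain ⟨γ, rfl⟩ := QuotientGroup.mk_surjective γ
        rw [hsmul] at hγ
        have := hone x hx hx1 (g⁻¹ * γ) (by simpa [mul_assoc] using hγ)
        exact (QuotientGroup.eq.mpr this).symm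
      rw [key α hα, key β hβ]
    · rintro _ ⟨x, hx, hx1, g, rfl⟩ _ ⟨y, hy, hy1, k, rfl⟩ hne hcm
      set j := g⁻¹ * k with hj
      set C := centralizer ({x} : Set G) with hC
      have hjC : j * y * j⁻¹ ∈ C := mem_centralizer_singleton_iff.mpr (by
        calc j * y * j⁻¹ * x = g⁻¹ * ((k * y * k⁻¹) * (g * x * g⁻¹)) * g := by rw [hj]; group
          _ = g⁻¹ * ((g * x * g⁻¹) * (k * y * k⁻¹)) * g := by rw [hcm]
          _ = x * (j * y * j⁻¹) := by rw [hj]; group)
      have hle : (S : Subgroup G) ≤ C := sylow_le_centralizer S hAS hAc hx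
      have hp : IsPGroup 2 (zpowers (⟨j * y * j⁻¹, hjC⟩ : C)) := IsPGroup.of_card (n := 1) (by
        rw [Nat.card_zpowers, pow_one, ← Subgroup.orderOf_coe]
        show orderOf (j * y * j⁻¹) = 2
        have := orderOf_injective (MulAut.conj j).toMonoidHom (MulAut.conj j).injective y
        simpa [hord y hy hy1] using this)
      obtain ⟨T, hT⟩ := hp.exists_le_sylow
      obtain ⟨m, hm⟩ := MulAction.exists_smul_eq C T (S.subtype hle)
      have h2 : m * ⟨j * y * j⁻¹, hjC⟩ * m⁻¹ ∈ ((S.subtype hle : Sylow 2 C) : Subgroup C) := by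
        rw [← hm]
        exact ⟨_, hT (mem_zpowers _), rfl⟩
      rw [Sylow.coe_subtype, mem_subgroupOf] at h2
      have he : ((m * ⟨j * y * j⁻¹, hjC⟩ * m⁻¹ : C) : G) = ((m : G) * j) * y * ((m : G) * j)⁻¹ := by
        show (m : G) * (j * y * j⁻¹) * (m : G)⁻¹ = _
        group
      rw [he] at h2
      set w := ((m : G) * j) * y * ((m : G) * j)⁻¹ with hw
      have hwA : w ∈ A := hclosed y hy _ h2
      have hmx : (m : G) * x = x * m := mem_centralizer_singleton_iff.mp m.2
      have heq : g * (m : G)⁻¹ * (x * w) * (g * (m : G)⁻¹)⁻¹ = g * x * g⁻¹ * (k * y * k⁻¹) := by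
        calc g * (m : G)⁻¹ * (x * w) * (g * (m : G)⁻¹)⁻¹
            = g * ((m : G)⁻¹ * x * m) * (g⁻¹ * (k * y * k⁻¹)) := by rw [hw, hj]; group
          _ = g * x * (g⁻¹ * (k * y * k⁻¹)) := by rw [mul_assoc (m : G)⁻¹, ← hmx, inv_mul_cancel_left]
          _ = _ := by group
      refine ⟨x * w, mul_mem hx hwA, ?_, g * (m : G)⁻¹, heq⟩
      intro he1
      rw [he1, mul_one, mul_inv_cancel] at heq
      have e1 : k * y * k⁻¹ = (g * x * g⁻¹)⁻¹ := eq_inv_of_mul_eq_one_right heq.symm
      refine hne ?_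
      rw [e1, mul_inv_rev, mul_inv_rev, inv_inv, inv_eq_of_mul_eq_one_left (hAsq x hx), mul_assoc]
    · rintro T hT _ ⟨x, hx, hx1, g, rfl⟩ hxT t ht
      obtain ⟨P, hP⟩ := hT.exists_le_sylow
      exact hinto x hx P g (hP hxT) t (hP ht)
  have hsub := subsingleton_of_spots (Nat.card G) G (G ⧸ M) _ le_rfl hspots a ⟨a, ha, ha1, 1, by group⟩
    (σ a) ⟨σ a, hAi a ha, fun e => ha1 (σ.injective (by rw [e, map_one])), 1, by group⟩
    ⟨((1 : G) : G ⧸ M), (hsmul a 1).mpr (by simpa using hSM (hAS ha))⟩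
    ⟨((1 : G) : G ⧸ M), (hsmul (σ a) 1).mpr (by simpa using hSM (hAS (hAi a ha)))⟩
    (fun g hg => hnc a ha ha1 g⁻¹ (by nth_rw 1 [← hg]; group))
  refine hMtop (eq_top_iff.mpr fun g _ => ?_)
  have := QuotientGroup.eq.mp (@Subsingleton.elim _ hsub ((1 : G) : G ⧸ M) (g : G ⧸ M))
  simpa using this

/-- the group is solvable -/
theorem solvable_of_hyp : ∀ (n : ℕ) (G : Type u) [Group G] [Finite G] (σ : MulAut G), Nat.card G ≤ n →
    Hyp σ → Group.IsSolvable G := by
  intro n
  induction n with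
  | zero => intro G _ _ σ hn; exact absurd hn (by have := Nat.card_pos (α := G); omega)
  | succ n ih =>
    intro G _ _ σ hn h
    have hsub : ∀ H : Subgroup G, Inv σ H → H ≠ ⊤ → Group.IsSolvable H := fun H hi hne =>
      ih H (resAut σ H hi) (by
        rcases (Subgroup.card_le_card_group H).lt_or_eq with h' | h'
        · omega
        · exact absurd (eq_top_of_card_eq H h') hne) (h.res hi)
    by_contra hns
    refine no_minimal h (fun N hN hi => ?_) hsub hns
    by_contra! hne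
    haveI := hN
    haveI := hsub N hi hne.2
    haveI : Group.IsSolvable (G ⧸ N) := ih (G ⧸ N) (quotAut σ N hi) (by
      have h1 := Subgroup.card_eq_card_quotient_mul_card_subgroup N
      have h2 : 1 < Nat.card N := N.one_lt_card_iff_ne_bot.mpr hne.1
      have := Nat.card_pos (α := G ⧸ N)
      nlinarith) (h.quot hi)
    exact hns (Group.isSolvable_of_ker_le_range N.subtype (QuotientGroup.mk' N) (by simp))

end Cfsg.Agent.H52.FpfThree
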