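import Cfsg.Agent.H52.FpfThree.Basic
import Cfsg.Agent.Coprime.FpfElem
import Cfsg.Agent.Cores.Fitting
import Cfsg.Agent.Cores.Constrained
import Cfsg.Agent.Cores.PSolvable
import Cfsg.Agent.PGroups.Basic

/-!
The structure of a solvable group with such an automorphism: `O(G)S` is normal and covered modulo fixed points.
-/

set_option autoImplicit false
set_option linter.style.haveILetI false

namespace Cfsg.Agent.H52.FpfThree

open Subgroup Cfsg Cfsg.Agent SemidirectProduct
open scoped commutatorElement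

universe u

variable {G : Type u} [Group G] [Finite G]

/-- an invariant subgroup of odd order is moved only within the centralizer of an invariant normal 2-subgroup -/
theorem mem_centralizer_of_odd {σ : MulAut G} (h : Hyp σ) (F : Subgroup G) [F.Normal]
    (hF : IsPGroup 2 F) (hFc : ∀ φ : MulAut G, F.map (φ : G ≃* G).toMonoidHom = F)
    {Q : Subgroup G} (hQ : Inv σ Q) (hodd : Odd (Nat.card Q)) {k : G} (hk : k ∈ Q) :
    σ k * k⁻¹ ∈ centralizer (F : Set G) := by
  classical
  haveI : Fact (Nat.Prime 2) := ⟨Nat.prime_two⟩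
  haveI : Fact (Nat.Prime 3) := ⟨Nat.prime_three⟩
  let A := zpowers σ
  let X := Coprime.Ext A G
  let Φ := (frattini F).map F.subtype
  have hΦinv : ∀ (φ : MulAut G), ∀ z ∈ Φ, φ z ∈ Φ := by
    rintro φ _ ⟨w, hw, rfl⟩
    let e : F ≃* F := (F.equivMapOfInjective (φ : G ≃* G).toMonoidHom φ.injective).trans
      (MulEquiv.subgroupCongr (hFc φ))
    refine ⟨e w, ?_, rfl⟩
    have := (characteristic_iff_map_eq.mp (frattini_characteristic (G := F))) e
    rw [← this]
    exact mem_map_of_mem _ hw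
  have hnorm : ∀ L : Subgroup G, (∀ (φ : MulAut G), ∀ z ∈ L, φ z ∈ L) →
      (L.map (inl : G →* X)).Normal := by
    intro L hL
    refine ⟨?_⟩
    rintro _ ⟨z, hz, rfl⟩ v
    rw [← SemidirectProduct.inl_left_mul_inr_right v]
    refine ⟨MulAut.conj v.left (MulDistribMulAction.toMulAut A G v.right z), hL _ _ (hL _ z hz), ?_⟩
    show inl (v.left * (v.right • z) * v.left⁻¹) = _
    rw [map_mul, map_mul, ← Coprime.inr_conj_inl, map_inv, mul_inv_rev]
    simp only [mul_assoc]
  haveI : (Φ.map (inl : G →* X)).Normal := hnorm Φ hΦinv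
  haveI : (F.map (inl : G →* X)).Normal := hnorm F fun φ z hz => by
    rw [← hFc φ]; exact mem_map_of_mem _ hz
  set μ := QuotientGroup.mk' (Φ.map (inl : G →* X)) with hμ
  have hμeq : ∀ g : G, μ (inl g) = 1 ↔ g ∈ Φ := fun g => by
    rw [hμ, QuotientGroup.mk'_apply, QuotientGroup.eq_one_iff]
    exact Coprime.inl_mem_map
  haveI : Finite X := Finite.of_equiv _ SemidirectProduct.equivProd.symm
  set V := (F.map (inl : G →* X)).map μ with hV
  haveI hVn : V.Normal := ‹(F.map (inl : G →* X)).Normal›.map _ (QuotientGroup.mk'_surjective _)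
  have hexp : ∀ v ∈ V, v ^ 2 = 1 := by
    rintro _ ⟨_, ⟨g, hg, rfl⟩, rfl⟩
    rw [← map_pow, ← map_pow, hμeq]
    exact mem_map_of_mem _ (PGroups.pow_mem_frattini hF ⟨g, hg⟩)
  haveI : IsMulCommutative V := by
    refine ⟨⟨?_⟩⟩
    rintro ⟨_, _, ⟨g, hg, rfl⟩, rfl⟩ ⟨_, _, ⟨g', hg', rfl⟩, rfl⟩
    refine Subtype.ext ?_
    show μ (inl g) * μ (inl g') = μ (inl g') * μ (inl g)
    rw [← commutatorElement_eq_one_iff_mul_comm, ← map_commutatorElement (f := μ),
      ← map_commutatorElement (f := (inl : G →* X)), hμeq]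
    exact ⟨⁅(⟨g, hg⟩ : F), ⟨g', hg'⟩⁆, PGroups.commutator_le_frattini hF
      (Subgroup.commutator_mem_commutator (mem_top _) (mem_top _)), rfl⟩
  set s : A := ⟨σ, mem_zpowers σ⟩
  set t : X ⧸ Φ.map (inl : G →* X) := μ (inr s) with ht
  have hconj : ∀ g : G, t * μ (inl g) * t⁻¹ = μ (inl (σ g)) := fun g => by
    rw [ht, ← map_inv, ← map_mul, ← map_mul, Coprime.inr_conj_inl]
    rfl
  have ht3 : t ^ 3 = 1 := by
    rw [ht, ← map_pow, ← map_pow, show s ^ 3 = 1 from Subtype.ext (by simpa using h.cube), map_one, map_one]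
  have hfix : ∀ v ∈ V, t * v = v * t → v = 1 := by
    rintro _ ⟨_, ⟨g, hg, rfl⟩, rfl⟩ hc
    have h1 := hconj g
    rw [hc, mul_inv_cancel_right] at h1
    have h2 : g⁻¹ * σ g ∈ Φ := by
      rw [← hμeq, map_mul, map_mul, map_inv, map_inv, ← h1, inv_mul_cancel]
    obtain ⟨c, hc', hcn⟩ := h.lift (N := Φ) (fun z hz => hΦinv σ z hz) h2
    have hcF : c ∈ F := by
      have := mul_mem hg ((map_subtype_le _ : Φ ≤ F) hcn)
      simpa using this
    rw [h.eq_one hF hcF hc', mul_one] at hcn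
    exact (hμeq g).mpr (inv_mem_iff.mp hcn)
  set K := (Q.map (inl : G →* X)).map μ with hK
  have htK : t ∈ normalizer (K : Set (X ⧸ Φ.map (inl : G →* X))) := by
    refine Coprime.mem_normalizer_of_map_conj (eq_of_le_of_card_ge ?_
      (card_map_of_injective (MulAut.conj t).injective).ge)
    rintro _ ⟨_, ⟨_, ⟨g, hg, rfl⟩, rfl⟩, rfl⟩
    show t * μ (inl g) * t⁻¹ ∈ K
    rw [hconj]
    exact mem_map_of_mem _ (mem_map_of_mem _ (hQ g hg))
  have hKdvd : Nat.card K ∣ Nat.card Q := ((Q.map (inl : G →* X)).card_map_dvd μ).trans (Q.card_map_dvd inl)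
  have hKV : K ≤ normalizer (V : Set (X ⧸ Φ.map (inl : G →* X))) := by
    rw [normalizer_eq_top (H := V)]; exact le_top
  have key := Coprime.FpfElem.commutator_le_centralizer (l := 2) (r := 3) V hexp t ht3 (by decide)
    (normalizer_eq_top (H := V) ▸ mem_top _) hfix K hKV htK (fun p hp hd => by
      have hp2 : p ≠ 2 := fun e => Nat.not_even_iff_odd.mpr hodd
        (even_iff_two_dvd.mpr (e ▸ hd.trans hKdvd))
      have hp3 : p ≠ 3 := fun e => h.three ((e ▸ hd.trans hKdvd).trans Q.card_subgroup_dvd_card)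
      exact ⟨hp2, hp3, fun e => hp2 e.1⟩)
  set u := σ k * k⁻¹ with hu
  have huQ : u ∈ Q := mul_mem (hQ k hk) (inv_mem hk)
  have huV : μ (inl u) ∈ centralizer (V : Set (X ⧸ Φ.map (inl : G →* X))) := by
    have e : μ (inl u) = ⁅t, μ (inl k)⁆ := by
      rw [commutatorElement_def, hconj, ← map_inv, ← map_inv, ← map_mul, ← map_mul]
    rw [e]
    exact key (commutator_mem_commutator (mem_zpowers t) (mem_map_of_mem _ (mem_map_of_mem _ hk)))
  have hA : zpowers u ≤ centralizer (F : Set G) := by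
    refine Coprime.le_centralizer_of_frattini (by rw [normalizer_eq_top (H := F)]; exact le_top) ?_ ?_
    · obtain ⟨i, hi⟩ := IsPGroup.iff_card.mp (hF.to_subgroup (frattini F))
      rw [hi]
      exact Nat.Coprime.pow_right i (Nat.coprime_two_right.mpr
        (hodd.of_dvd_nat (card_dvd_of_le (zpowers_le.mpr huQ))))
    · let Z : Subgroup G := (centralizer (V : Set (X ⧸ Φ.map (inl : G →* X)))).comap (μ.comp inl)
      have hZ : zpowers u ≤ Z := zpowers_le.mpr huV
      intro a ha o ho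
      have h2 := mem_centralizer_iff.mp (hZ ha) (μ (inl o)) (mem_map_of_mem _ (mem_map_of_mem _ ho))
      rw [MonoidHom.comp_apply] at h2
      show a * o * a⁻¹ * o⁻¹ ∈ Φ
      rw [← hμeq, map_mul, map_mul, map_mul, map_inv, map_inv, map_mul, map_mul, map_mul, map_inv, map_inv,
        ← h2, mul_inv_cancel_right, mul_inv_cancel]
  exact hA (mem_zpowers u)

/-- the structure when `O(G) = 1` -/
theorem split_core [Group.IsSolvable G] {σ : MulAut G} (h : Hyp σ) (hO : Cfsg.pPrimeCore 2 G = ⊥) :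
    ¬ 2 ∣ (Cfsg.pCore 2 G).index ∧ ∀ g : G, g⁻¹ * σ g ∈ Cfsg.pCore 2 G := by
  classical
  haveI : Fact (Nat.Prime 2) := ⟨Nat.prime_two⟩
  haveI : (Cfsg.pCore 2 G).Normal := Cfsg.pCore_normal 2 G
  set F := Cfsg.pCore 2 G with hFdef
  have hFp : IsPGroup 2 F := Cores.pCore_isPGroup
  have hCF : centralizer (F : Set G) ≤ F :=
    Cores.centralizer_pCore_le Cores.isPSolvable_of_isSolvable hO
  set π := QuotientGroup.mk' F with hπ
  have hFi : Inv σ F := inv_pCore σ 2
  set τ := quotAut σ F hFi with hτ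
  haveI : (Cfsg.pPrimeCore 2 (G ⧸ F)).Normal := Cfsg.pPrimeCore_normal 2 _
  set R := Cfsg.pPrimeCore 2 (G ⧸ F) with hR
  set P := R.comap π with hPdef
  have hPi : Inv σ P := (inv_pPrimeCore τ 2).comap π (fun _ => rfl)
  -- the elements moved within the core
  let D : Subgroup G :=
    { carrier := {g | τ (π g) = π g}
      one_mem' := by simp
      mul_mem' := fun {a b} ha hb => by
        show τ (π (a * b)) = π (a * b)
        rw [map_mul, map_mul, show τ (π a) = π a from ha, show τ (π b) = π b from hb]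
      inv_mem' := fun {a} ha => by
        show τ (π a⁻¹) = π a⁻¹
        rw [map_inv, map_inv, show τ (π a) = π a from ha] }
  have hDmem : ∀ g, g ∈ D ↔ g⁻¹ * σ g ∈ F := fun g =>
    ⟨fun hg => QuotientGroup.eq.mp (show (π g) = π (σ g) from hg.symm),
      fun hg => (QuotientGroup.eq.mpr hg : π g = π (σ g)).symm⟩
  have hFD : F ≤ D := fun g hg => (hDmem g).mpr (mul_mem (inv_mem hg) (hFi g hg))
  have hPD : P ≤ D := by
    rw [← subgroupOf_eq_top]
    refine eq_top_of_card_eq _ (Nat.dvd_antisymm (card_subgroup_dvd_card _) ?_)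
    rw [← Nat.factorization_prime_le_iff_dvd Nat.card_pos.ne' Nat.card_pos.ne']
    intro q hq
    haveI : Fact q.Prime := ⟨hq⟩
    obtain ⟨S, hS⟩ := (h.res hPi).exists_sylow q
    rw [← hq.pow_dvd_iff_le_factorization Nat.card_pos.ne', ← S.card_eq_multiplicity]
    refine card_dvd_of_le fun k hk => mem_subgroupOf.mpr ?_
    rcases eq_or_ne q 2 with rfl | hq2
    · refine hFD ?_
      have h2 : π (k : G) = 1 := by
        obtain ⟨n, hn⟩ := IsPGroup.iff_orderOf.mp S.isPGroup' ⟨k, hk⟩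
        rw [Subgroup.orderOf_mk] at hn
        refine orderOf_eq_one_iff.mp (Nat.eq_one_of_dvd_coprimes
          (Nat.Coprime.pow_left n (Cores.coprime_card_pPrimeCore (p := 2) (G := G ⧸ F)).symm)
          ?_ (Subgroup.orderOf_dvd_natCard R k.2))
        rw [← hn, ← Subgroup.orderOf_coe k]
        exact orderOf_map_dvd _ _
      exact (QuotientGroup.eq_one_iff _).mp h2
    · have hSodd : Odd (Nat.card ((S : Subgroup P).map P.subtype)) := by
        obtain ⟨n, hn⟩ := IsPGroup.iff_card.mp (S.isPGroup'.map P.subtype)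
        rw [hn]
        exact (hq.odd_of_ne_two hq2).pow
      have hSi : Inv σ ((S : Subgroup P).map P.subtype) := hS.image P.subtype (fun x => rfl)
      have h1 := mem_centralizer_of_odd h F hFp (fun φ => Cores.pCore_map_mulEquiv φ) hSi hSodd
        (mem_map_of_mem P.subtype hk)
      refine (hDmem _).mpr ?_
      have := Subgroup.Normal.conj_mem inferInstance _ (hCF h1) (k : G)⁻¹
      simpa [mul_assoc] using this
  -- an invariant Sylow 2-subgroup lies in the core
  obtain ⟨S, hS⟩ := h.exists_sylow 2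
  have hSF : (S : Subgroup G) ≤ F := by
    intro u hu
    have hc : π u ∈ centralizer (R : Set (G ⧸ F)) := by
      obtain ⟨s, hs, rfl⟩ := h.exists_comm S.isPGroup' hS hu
      rw [mem_centralizer_iff]
      intro y hy
      obtain ⟨x, rfl⟩ := QuotientGroup.mk'_surjective F y
      have h1 : τ (π x) = π x := hPD (show x ∈ P from hy)
      have h2 : τ (π (s * x * s⁻¹)) = π (s * x * s⁻¹) := hPD (show s * x * s⁻¹ ∈ P from
        (inferInstance : P.Normal).conj_mem x hy s)
      rw [map_mul, map_mul, map_inv, map_mul, map_mul, map_inv, h1, show τ (π s) = π (σ s) from rfl] at h2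
      rw [map_mul, map_inv]
      change π x * ((π s)⁻¹ * π (σ s)) = (π s)⁻¹ * π (σ s) * π x
      calc π x * ((π s)⁻¹ * π (σ s)) = (π s)⁻¹ * (π s * π x * (π s)⁻¹) * π (σ s) := by group
        _ = (π s)⁻¹ * (π (σ s) * π x * (π (σ s))⁻¹) * π (σ s) := by rw [h2]
        _ = _ := by group
    have h2O : Cfsg.pCore 2 (G ⧸ F) = ⊥ := Cores.pCore_quotient_pCore
    have hfit : fittingSubgroup (G ⧸ F) ≤ R := by
      rw [Cores.iSup_pCore_eq_fittingSubgroup]
      refine iSup_le fun r => ?_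
      haveI : Fact (r : ℕ).Prime := ⟨r.2⟩
      haveI : (Cfsg.pCore (r : ℕ) (G ⧸ F)).Normal := Cfsg.pCore_normal _ _
      by_cases hr : (r : ℕ) = 2
      · rw [hr, h2O]; exact bot_le
      · obtain ⟨n, hn⟩ := IsPGroup.iff_card.mp (Cores.pCore_isPGroup (p := (r : ℕ)) (G := G ⧸ F))
        exact Cores.le_pPrimeCore (by
          rw [hn]; exact ((Nat.coprime_primes r.2 Nat.prime_two).mpr hr).pow_left n)
    have h3 : π u ∈ R := hfit (Cores.centralizer_fittingSubgroup_le (centralizer_le hfit hc))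
    obtain ⟨n, hn⟩ := IsPGroup.iff_orderOf.mp S.isPGroup' ⟨u, hu⟩
    rw [Subgroup.orderOf_mk] at hn
    refine (QuotientGroup.eq_one_iff _).mp (orderOf_eq_one_iff.mp (Nat.eq_one_of_dvd_coprimes
      (Nat.Coprime.pow_left n (Cores.coprime_card_pPrimeCore (p := 2) (G := G ⧸ F)).symm)
      (show orderOf (π u) ∣ 2 ^ n from ?_) (Subgroup.orderOf_dvd_natCard R h3)))
    exact hn ▸ orderOf_map_dvd π u
  have hFS : F = (S : Subgroup G) := le_antisymm (Cores.pCore_le_sylow S) hSF
  refine ⟨?_, fun g => (hDmem g).mp (hPD ?_)⟩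
  · rw [hFS]
    exact S.not_dvd_index
  · show π g ∈ R
    rw [hR, Cores.pPrimeCore_eq_top_iff.mpr]
    · exact mem_top _
    · refine Nat.coprime_two_right.mpr (Nat.not_even_iff_odd.mp fun he => S.not_dvd_index ?_)
      rw [even_iff_two_dvd, ← Subgroup.index_eq_card, hFS] at he
      exact he

/-- the structure of a solvable group with such an automorphism -/
theorem split [Group.IsSolvable G] {σ : MulAut G} (h : Hyp σ) :
    ¬ 2 ∣ (Cfsg.pPrimePCore 2 G).index ∧
      ∀ g : G, ∃ x ∈ Cfsg.pPrimePCore 2 G, ∃ d, σ d = d ∧ g = x * d := by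
  classical
  haveI : Fact (Nat.Prime 2) := ⟨Nat.prime_two⟩
  set O := Cfsg.pPrimeCore 2 G with hOdef
  set π := QuotientGroup.mk' O with hπ
  have hOi : Inv σ O := inv_pPrimeCore σ 2
  obtain ⟨hidx, hmv⟩ := split_core (h.quot hOi) (Cores.pPrimeCore_quotient_pPrimeCore (p := 2) (G := G))
  haveI : (Cfsg.pCore 2 (G ⧸ O)).Normal := Cfsg.pCore_normal 2 _
  have hP : Cfsg.pPrimePCore 2 G = (Cfsg.pCore 2 (G ⧸ O)).comap π := rfl
  haveI : (Cfsg.pPrimePCore 2 G).Normal := hP ▸ inferInstance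
  refine ⟨?_, fun g => ?_⟩
  · rw [hP, Subgroup.index_comap_of_surjective _ (QuotientGroup.mk'_surjective O)]
    exact hidx
  · have hi : Inv σ (Cfsg.pPrimePCore 2 G) := (inv_pCore (quotAut σ O hOi) 2).comap π (fun _ => rfl)
    have hm : g⁻¹ * σ g ∈ Cfsg.pPrimePCore 2 G := by
      rw [hP, mem_comap, map_mul, map_inv]
      exact hmv (π g)
    obtain ⟨c, hc, hcn⟩ := h.lift hi hm
    refine ⟨g * c⁻¹, ?_, c, hc, (inv_mul_cancel_right g c).symm⟩
    have := (inferInstance : (Cfsg.pPrimePCore 2 G).Normal).conj_mem _ (inv_mem hcn) g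
    simpa [mul_assoc] using this

end Cfsg.Agent.H52.FpfThree
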